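import Mathlib

/-!
A TI-subgroup `M` whose normaliser is `M` times the centraliser of an involution `z`: either the
group has at most `|G : M|` involutions or every left coset of `M` outside the normaliser contains
exactly one involution.
-/

set_option autoImplicit false

namespace Cfsg.Agent.Lib.TICount

variable {G : Type*} [Group G]

/-- The hypotheses, in elementwise form. -/
structure Hyp (M : Subgroup G) (z : G) : Prop where
  ne_bot : M ≠ ⊥
  ti : ∀ g : G, ∀ x ∈ M, x ≠ 1 → g * x * g⁻¹ ∈ M → g ∈ Subgroup.normalizer (M : Set G)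
  zz : z * z = 1
  z_ne : z ≠ 1
  z_mem : z ∈ Subgroup.normalizer (M : Set G)
  fac : ∀ g ∈ Subgroup.normalizer (M : Set G), ∃ x ∈ M, ∃ k ∈ Subgroup.normalizer (M : Set G),
    k * z = z * k ∧ g = x * k
  no_inv : ∀ x ∈ M, x ≠ 1 → ∀ a : G, a * x = x * a → a * a = 1 → a = 1

/-- Every coset of `M` outside the normaliser contains an involution. -/
def Full (M : Subgroup G) : Prop :=
  ∀ g : G, g ∉ Subgroup.normalizer (M : Set G) → ∃ y ∈ M, g * y * (g * y) = 1

theorem inv_self {w : G} (hw : w * w = 1) : w⁻¹ = w := inv_eq_of_mul_eq_one_right hw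

theorem mul_notMem {K : Subgroup G} {u g : G} (hu : u ∉ K) (hg : g ∈ K) : u * g ∉ K :=
  fun h => hu (by simpa using K.mul_mem h (K.inv_mem hg))

namespace Hyp

variable {M : Subgroup G} {z : G} [Finite G] (hM : Hyp M z)
include hM

local notation "N" => Subgroup.normalizer (M : Set G)

omit [Finite G] in
theorem conj_mem {g x : G} (hg : g ∈ N) (hx : x ∈ M) : g * x * g⁻¹ ∈ M :=
  (Subgroup.mem_normalizer_iff.mp hg x).mp hx

/-- An involution of `N` inverts `M`, and `M` is commutative. -/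
theorem inverts_and_comm {w : G} (hw : w ∈ N) (hww : w * w = 1) (hw1 : w ≠ 1) :
    (∀ x ∈ M, w * x * w = x⁻¹) ∧ ∀ a ∈ M, ∀ b ∈ M, a * b = b * a := by
  have hmem : ∀ x ∈ M, w * x * w ∈ M := fun x hx => by
    have := hM.conj_mem hw hx
    rwa [inv_self hww] at this
  let φ : M →* M :=
    { toFun := fun x => ⟨w * x * w, hmem x x.2⟩
      map_one' := Subtype.ext (by simpa using hww)
      map_mul' := fun x y => Subtype.ext (by
        show w * ((x : G) * y) * w = w * x * w * (w * y * w)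
        calc w * ((x : G) * y) * w = w * x * 1 * y * w := by group
          _ = w * x * (w * w) * y * w := by rw [hww]
          _ = w * x * w * (w * y * w) := by group) }
  have hfix : MonoidHom.FixedPointFree φ := by
    intro x hx
    by_contra hx1
    have h : w * (x : G) * w = x := congrArg Subtype.val hx
    have hc : w * (x : G) = x * w := by
      calc w * (x : G) = w * x * (w * w) := by rw [hww, mul_one]
        _ = w * x * w * w := by group
        _ = x * w := by rw [h]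
    exact hw1 (hM.no_inv x x.2 (fun e => hx1 (Subtype.ext e)) w hc hww)
  have hinv : Function.Involutive φ := fun x => Subtype.ext (by
    show w * (w * (x : G) * w) * w = x
    calc w * (w * (x : G) * w) * w = (w * w) * x * (w * w) := by group
      _ = x := by rw [hww, one_mul, mul_one])
  refine ⟨fun x hx => ?_, fun a ha b hb => ?_⟩
  · exact congrArg Subtype.val (congrFun (hfix.coe_eq_inv_of_involutive hinv) ⟨x, hx⟩)
  · exact congrArg Subtype.val (hfix.commute_all_of_involutive hinv ⟨a, ha⟩ ⟨b, hb⟩).eq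

theorem inverts {w : G} (hw : w ∈ N) (hww : w * w = 1) (hw1 : w ≠ 1) {x : G} (hx : x ∈ M) :
    w * x * w = x⁻¹ := (hM.inverts_and_comm hw hww hw1).1 x hx

theorem comm {a b : G} (ha : a ∈ M) (hb : b ∈ M) : a * b = b * a :=
  (hM.inverts_and_comm hM.z_mem hM.zz hM.z_ne).2 a ha b hb

theorem z_mul {x : G} (hx : x ∈ M) : z * x = x⁻¹ * z := by
  calc z * x = z * x * (z * z) := by rw [hM.zz, mul_one]
    _ = z * x * z * z := by group
    _ = x⁻¹ * z := by rw [hM.inverts hM.z_mem hM.zz hM.z_ne hx]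

omit [Finite G] in
theorem sq_eq_one {x : G} (hx : x ∈ M) (h : x * x = 1) : x = 1 := by
  by_contra hx1
  exact hx1 (hM.no_inv x hx hx1 x rfl h)

omit [Finite G] in
theorem commute_z {x : G} (hx : x ∈ M) (h : x * z = z * x) : x = 1 := by
  by_contra hx1
  exact hM.z_ne (hM.no_inv x hx hx1 z h.symm hM.zz)

omit [Finite G] in
theorem z_notMem : z ∉ M := fun h => hM.z_ne (hM.commute_z h rfl)

theorem sq_inj {a b : G} (ha : a ∈ M) (hb : b ∈ M) (h : a * a = b * b) : a = b := by
  have hc := hM.comm ha (M.inv_mem hb)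
  refine mul_inv_eq_one.mp (hM.sq_eq_one (M.mul_mem ha (M.inv_mem hb)) ?_)
  calc a * b⁻¹ * (a * b⁻¹) = a * (b⁻¹ * a) * b⁻¹ := by group
    _ = a * (a * b⁻¹) * b⁻¹ := by rw [hc]
    _ = (a * a) * (b * b)⁻¹ := by group
    _ = 1 := by rw [h, mul_inv_cancel]

theorem exists_sqrt {x : G} (hx : x ∈ M) : ∃ y ∈ M, y * y = x := by
  let f : M → M := fun y => y * y
  have hf : Function.Injective f := fun a b h =>
    Subtype.ext (hM.sq_inj a.2 b.2 (congrArg Subtype.val h))
  obtain ⟨y, hy⟩ := (Finite.injective_iff_surjective.mp hf) ⟨x, hx⟩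
  exact ⟨y, y.2, congrArg Subtype.val hy⟩

theorem conj_z {y : G} (hy : y ∈ M) : y * z * y⁻¹ = y * y * z := by
  rw [mul_assoc y z, hM.z_mul (M.inv_mem hy), inv_inv]
  group

theorem mul_z_sq {x : G} (hx : x ∈ M) : x * z * (x * z) = 1 := by
  calc x * z * (x * z) = x * (z * x) * z := by group
    _ = x * (x⁻¹ * z) * z := by rw [hM.z_mul hx]
    _ = 1 := by rw [mul_inv_cancel_left, hM.zz]

omit [Finite G] in
theorem mul_z_ne_one {x : G} (hx : x ∈ M) : x * z ≠ 1 := fun h =>
  hM.z_notMem (by rw [eq_inv_of_mul_eq_one_right h]; exact M.inv_mem hx)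

theorem exists_eq_mul_z {w : G} (hw : w ∈ N) (hww : w * w = 1) (hw1 : w ≠ 1) :
    ∃ x ∈ M, w = x * z := by
  obtain ⟨x, hx, k, hk, hkz, rfl⟩ := hM.fac w hw
  have hk2 : k * k = 1 := by
    have hkk : k * k = (x * (k * x * k⁻¹))⁻¹ := by
      refine eq_inv_of_mul_eq_one_right ?_
      rw [← hww]
      group
    refine hM.commute_z (hkk ▸ M.inv_mem (M.mul_mem hx (hM.conj_mem hk hx))) ?_
    rw [mul_assoc, hkz, ← mul_assoc, hkz, mul_assoc]
  have hk1 : k ≠ 1 := by
    rintro rfl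
    rw [mul_one] at hww hw1
    exact hw1 (hM.sq_eq_one hx hww)
  obtain ⟨⟨y, hy⟩, hy1⟩ := (Subgroup.ne_bot_iff_exists_ne_one).mp hM.ne_bot
  have hky : k * y⁻¹ = y * k := by
    calc k * y⁻¹ = k * y⁻¹ * (k * k) := by rw [hk2, mul_one]
      _ = k * y⁻¹ * k * k := by group
      _ = y * k := by rw [hM.inverts hk hk2 hk1 (M.inv_mem hy), inv_inv]
  have hc : k * z * y = y * (k * z) := by
    rw [mul_assoc k z y, hM.z_mul hy, ← mul_assoc k, hky, mul_assoc]
  have hkz1 := hM.no_inv y hy (fun e => hy1 (Subtype.ext e)) (k * z) hc (by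
    calc k * z * (k * z) = k * (z * k) * z := by group
      _ = k * (k * z) * z := by rw [hkz]
      _ = (k * k) * (z * z) := by group
      _ = 1 := by rw [hk2, hM.zz, one_mul])
  exact ⟨x, hx, by rw [eq_inv_of_mul_eq_one_left hkz1, inv_self hM.zz]⟩

omit [Finite G] in
theorem uniq {u y : G} (hu : u ∉ N) (huu : u * u = 1) (hy : y ∈ M)
    (h : u * y * (u * y) = 1) : y = 1 := by
  by_contra hy1
  refine hu (hM.ti u y hy hy1 ?_)
  rw [inv_self huu, eq_inv_of_mul_eq_one_left (show u * y * u * y = 1 by simpa [mul_assoc] using h)]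
  exact M.inv_mem hy

/-- Either few involutions, or every coset outside `N` has one. -/
theorem card_le_or_full : Nat.card {g : G // orderOf g = 2} ≤ M.index ∨ Full M := by
  classical
  refine or_iff_not_imp_right.mpr fun hnf => ?_
  rw [Full] at hnf
  push Not at hnf
  obtain ⟨g₀, hg₀, hg₀'⟩ := hnf
  rw [Subgroup.index_eq_card]
  let f : {g : G // orderOf g = 2} → G ⧸ M := fun g =>
    if g.1 ∈ N then ((g.1 * z * g₀ : G) : G ⧸ M) else (g.1 : G ⧸ M)
  refine Nat.card_le_card_of_injective f ?_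
  have hsq : ∀ g : {g : G // orderOf g = 2}, g.1 * g.1 = 1 ∧ g.1 ≠ 1 := fun g =>
    ⟨by have := pow_orderOf_eq_one g.1; rwa [g.2, pow_two] at this, fun e => by simpa [e] using g.2⟩
  have hin : ∀ g : {g : G // orderOf g = 2}, g.1 ∈ N → g.1 * z ∈ M := fun g hg => by
    obtain ⟨x, hx, he⟩ := hM.exists_eq_mul_z hg (hsq g).1 (hsq g).2
    rw [he, mul_assoc, hM.zz, mul_one]; exact hx
  have hmixed : ∀ g g' : {g : G // orderOf g = 2}, g.1 ∈ N → g'.1 ∉ N →
      ((g.1 * z * g₀ : G) : G ⧸ M) ≠ (g'.1 : G ⧸ M) := by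
    intro g g' hg hg' he
    rw [QuotientGroup.eq] at he
    set x := g.1 * z with hx
    have h1 : (g₀ * ((x * g₀)⁻¹ * g'.1 * x)) * (g₀ * ((x * g₀)⁻¹ * g'.1 * x)) = 1 := by
      calc _ = x⁻¹ * (g'.1 * g'.1) * x := by group
        _ = 1 := by rw [(hsq g').1, mul_one, inv_mul_cancel]
    exact hg₀' _ (M.mul_mem he (hin g hg)) h1
  intro g g' he
  simp only [f] at he
  split_ifs at he with hg hg' hg'
  · rw [QuotientGroup.eq] at he
    by_contra hne
    refine hg₀ ?_
    have h := hM.ti g₀⁻¹ ((g.1 * z)⁻¹ * (g'.1 * z)) (M.mul_mem (M.inv_mem (hin g hg)) (hin g' hg'))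
      (fun e => hne (Subtype.ext (mul_right_cancel (inv_mul_eq_one.mp e)))) (by
        rw [inv_inv]; simpa [mul_assoc] using he)
    simpa using Subgroup.inv_mem _ h
  · exact absurd he (hmixed g g' hg hg')
  · exact absurd he.symm (hmixed g' g hg' hg)
  · rw [QuotientGroup.eq, inv_self (hsq g).1] at he
    have := hM.uniq hg (hsq g).1 he (by
      rw [← mul_assoc g.1 g.1, (hsq g).1, one_mul]; exact (hsq g').1)
    refine Subtype.ext ?_
    rw [eq_inv_of_mul_eq_one_right this, inv_self (hsq g).1]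

variable (hF : Full M)
include hF

/-- `M` meets the conjugate of `N` by an involution outside `N` trivially. -/
theorem inter_eq_one {u y : G} (hu : u ∉ N) (huu : u * u = 1) (hy : y ∈ M) (h : u * y * u ∈ N) :
    y = 1 := by
  by_contra hy1
  obtain ⟨x, hx, hx2⟩ := hF (u * z) (mul_notMem hu hM.z_mem)
  have hv : u * (z * x) * u = z * x := by
    have h1 : u * (z * x) * u = (z * x)⁻¹ :=
      eq_inv_of_mul_eq_one_left (by rw [← hx2]; group)
    rw [h1, hM.z_mul hx]
    exact inv_self (hM.mul_z_sq (M.inv_mem hx))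
  have hw : z * (x * y) * (z * (x * y)) = 1 := by
    rw [hM.z_mul (M.mul_mem hx hy)]
    exact hM.mul_z_sq (M.inv_mem (M.mul_mem hx hy))
  have hw1 : z * (x * y) ≠ 1 := fun e =>
    hM.z_notMem (by rw [eq_inv_of_mul_eq_one_left e]; exact M.inv_mem (M.mul_mem hx hy))
  have he : u * (z * (x * y)) * u = z * x * (u * y * u) := by
    calc u * (z * (x * y)) * u = u * (z * x) * 1 * y * u := by group
      _ = u * (z * x) * (u * u) * y * u := by rw [huu]
      _ = u * (z * x) * u * (u * y * u) := by group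
      _ = z * x * (u * y * u) := by rw [hv]
  have hN' : u * (z * (x * y)) * u ∈ N :=
    he ▸ Subgroup.mul_mem _ (Subgroup.mul_mem _ hM.z_mem (Subgroup.le_normalizer hx)) h
  obtain ⟨a, ha, hae⟩ := hM.exists_eq_mul_z hN'
    (by
      calc _ = u * (z * (x * y)) * (u * u) * (z * (x * y)) * u := by group
        _ = u * ((z * (x * y)) * (z * (x * y))) * u := by rw [huu]; group
        _ = 1 := by rw [hw, mul_one, huu])
    (fun e => hw1 (by
      calc z * (x * y) = (u * u) * (z * (x * y)) * (u * u) := by rw [huu, one_mul, mul_one]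
        _ = u * (u * (z * (x * y)) * u) * u := by group
        _ = 1 := by rw [e, mul_one, huu]))
  refine hu (hM.ti u y hy hy1 ?_)
  rw [inv_self huu, show u * y * u = (z * x)⁻¹ * (a * z) by
    rw [← hae, he, inv_mul_cancel_left]]
  rw [mul_inv_rev, inv_self hM.zz, mul_assoc, ← mul_assoc z a z, hM.inverts hM.z_mem hM.zz hM.z_ne ha]
  exact M.mul_mem (M.inv_mem hx) (M.inv_mem ha)

/-- An involution outside `N` inverts `N ∩ uNu`. -/
theorem inverted {u d : G} (hu : u ∉ N) (huu : u * u = 1) (hd : d ∈ N) (h : u * d * u ∈ N) :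
    u * d * u = d⁻¹ := by
  obtain ⟨y, hy, hy2⟩ := hF (u * d) (mul_notMem hu hd)
  have h1 : u * (d * y) * u = (d * y)⁻¹ := eq_inv_of_mul_eq_one_left (by rw [← hy2]; group)
  have hy1 : y = 1 := by
    refine hM.inter_eq_one hF hu huu hy ?_
    have : u * y * u = (u * d * u)⁻¹ * (u * (d * y) * u) := by
      rw [mul_inv_rev, mul_inv_rev, inv_self huu]
      calc u * y * u = u * d⁻¹ * 1 * (d * y) * u := by group
        _ = u * d⁻¹ * (u * u) * (d * y) * u := by rw [huu]
        _ = _ := by group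
    rw [this, h1]
    exact Subgroup.mul_mem _ (Subgroup.inv_mem _ h)
      (Subgroup.inv_mem _ (Subgroup.mul_mem _ hd (Subgroup.le_normalizer hy)))
  rwa [hy1, mul_one] at h1

theorem sq_of_commute {g : G} (hg : g ∉ N) (hgz : g * z = z * g) : g * g = 1 := by
  obtain ⟨y, hy, hy2⟩ := hF g hg
  have hu := mul_notMem hg (Subgroup.le_normalizer hy)
  have hin : g * y * z * (g * y) ∈ N → y = 1 := by
    intro h
    have h' := hM.inverted hF hu hy2 hM.z_mem h
    refine hM.commute_z hy ?_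
    have h2 : z * (g * y) = g * y * z := by
      calc z * (g * y) = g * y * (g * y) * z * (g * y) := by rw [hy2, one_mul]
        _ = g * y * (g * y * z * (g * y)) := by group
        _ = g * y * z := by rw [h', inv_self hM.zz]
    rw [← mul_assoc, ← hgz, mul_assoc, mul_assoc g y] at h2
    exact (mul_left_cancel h2).symm
  rw [hin (by
    have e : g * y * z * (g * y) = y⁻¹ * z * y := by
      nth_rw 1 [← inv_self hy2]
      rw [mul_inv_rev, mul_assoc _ g⁻¹ z, show g⁻¹ * z = z * g⁻¹ by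
        rw [eq_mul_inv_iff_mul_eq, mul_assoc, ← hgz, inv_mul_cancel_left]]
      group
    rw [e]
    exact Subgroup.mul_mem _ (Subgroup.mul_mem _ (Subgroup.inv_mem _ (Subgroup.le_normalizer hy))
      hM.z_mem) (Subgroup.le_normalizer hy)), mul_one] at hy2
  exact hy2

theorem inverts_H {g k : G} (hg : g ∉ N) (hgz : g * z = z * g) (hk : k ∈ N) (hkz : k * z = z * k) :
    g * k * g = k⁻¹ :=
  eq_inv_of_mul_eq_one_left (by
    rw [← hM.sq_of_commute hF (mul_notMem hg hk) (by rw [mul_assoc, hkz, ← mul_assoc, hgz, mul_assoc])]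
    group)

/-- The involutions outside `N`. -/
theorem card_out_mul : Nat.card {u : G // u ∉ N ∧ u * u = 1} * Nat.card M + Nat.card N =
    Nat.card G := by
  rw [← Nat.card_prod, ← Nat.card_sum]
  refine Nat.card_congr (Equiv.ofBijective
    (Sum.elim (fun p : {u : G // u ∉ N ∧ u * u = 1} × M => p.1.1 * p.2) (fun g : N => (g : G))) ⟨?_, ?_⟩)
  · rintro (⟨⟨u, hu⟩, y⟩ | g) (⟨⟨u', hu'⟩, y'⟩ | g') he <;> simp only [Sum.elim_inl, Sum.elim_inr] at he
    · have he' : u' = u * ((y : G) * (y' : G)⁻¹) := by rw [← mul_assoc, he, mul_inv_cancel_right]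
      have h1 : (y : G) * (y' : G)⁻¹ = 1 :=
        hM.uniq hu.1 hu.2 (M.mul_mem y.2 (M.inv_mem y'.2)) (he' ▸ hu'.2)
      rw [h1, mul_one] at he'
      subst he'
      rw [Subtype.ext (mul_left_cancel he)]
    · exact absurd (he ▸ g'.2) (mul_notMem hu.1 (Subgroup.le_normalizer y.2))
    · exact absurd (he ▸ g.2) (mul_notMem hu'.1 (Subgroup.le_normalizer y'.2))
    · rw [Subtype.ext he]
  · intro g
    by_cases hg : g ∈ N
    · exact ⟨.inr ⟨g, hg⟩, rfl⟩
    · obtain ⟨y, hy, hy2⟩ := hF g hg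
      exact ⟨.inl (⟨g * y, mul_notMem hg (Subgroup.le_normalizer hy), hy2⟩, ⟨y⁻¹, M.inv_mem hy⟩),
        mul_inv_cancel_right g y⟩

theorem card_out : Nat.card {u : G // u ∉ N ∧ u * u = 1} =
    Nat.card M * Nat.card {g : G // g ∉ N ∧ g * z = z * g} := by
  rw [← Nat.card_prod]
  symm
  refine Nat.card_congr (Equiv.ofBijective (fun p : M × {g : G // g ∉ N ∧ g * z = z * g} =>
    (⟨p.1 * p.2.1 * (p.1 : G)⁻¹, fun h => p.2.2.1 (by
        simpa [mul_assoc] using Subgroup.mul_mem _ (Subgroup.mul_mem _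
          (Subgroup.inv_mem _ (Subgroup.le_normalizer p.1.2)) h) (Subgroup.le_normalizer p.1.2)), by
      calc (p.1 : G) * p.2.1 * (p.1 : G)⁻¹ * (p.1 * p.2.1 * (p.1 : G)⁻¹)
          = p.1 * (p.2.1 * p.2.1) * (p.1 : G)⁻¹ := by group
        _ = 1 := by rw [hM.sq_of_commute hF p.2.2.1 p.2.2.2, mul_one, mul_inv_cancel]⟩ :
      {u : G // u ∉ N ∧ u * u = 1})) ⟨?_, ?_⟩)
  · rintro ⟨x, g, hg, hgz⟩ ⟨x', g', hg', hgz'⟩ he
    have he' : (x : G) * g * (x : G)⁻¹ = x' * g' * (x' : G)⁻¹ := congrArg Subtype.val he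
    set u := (x : G) * g * (x : G)⁻¹ with hu_def
    have hu : u ∉ N := fun h => hg (by
      simpa [hu_def, mul_assoc] using Subgroup.mul_mem _ (Subgroup.mul_mem _
        (Subgroup.inv_mem _ (Subgroup.le_normalizer x.2)) h) (Subgroup.le_normalizer x.2))
    have huu : u * u = 1 := by
      calc u * u = x * (g * g) * (x : G)⁻¹ := by rw [hu_def]; group
        _ = 1 := by rw [hM.sq_of_commute hF hg hgz, mul_one, mul_inv_cancel]
    have hcx : ∀ a h : G, h * z = z * h → a * h * a⁻¹ * (a * z * a⁻¹) = a * z * a⁻¹ * (a * h * a⁻¹) := by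
      intro a h hh
      calc a * h * a⁻¹ * (a * z * a⁻¹) = a * (h * z) * a⁻¹ := by group
        _ = a * (z * h) * a⁻¹ := by rw [hh]
        _ = _ := by group
    have h1 : u * (x * z * (x : G)⁻¹) = x * z * (x : G)⁻¹ * u := hcx x g hgz
    have h2 : u * (x' * z * (x' : G)⁻¹) = x' * z * (x' : G)⁻¹ * u := by
      rw [he']; exact hcx x' g' hgz'
    set e := ((x : G) * z * (x : G)⁻¹) * (x' * z * (x' : G)⁻¹) with he_def
    have hec : u * e * u = e := by
      clear_value u
      rw [he_def, ← mul_assoc u, h1, mul_assoc _ u, h2, ← mul_assoc, mul_assoc _ u u, huu, mul_one]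
    have hee : e = (x : G) * x * ((x' : G) * x')⁻¹ := by
      rw [he_def, hM.conj_z x.2, hM.conj_z x'.2, ← mul_assoc, mul_assoc ((x : G) * x) z,
        hM.z_mul (M.mul_mem x'.2 x'.2), mul_assoc, mul_assoc _ z z, hM.zz, mul_one]
    have heM : e ∈ M := hee ▸ M.mul_mem (M.mul_mem x.2 x.2) (M.inv_mem (M.mul_mem x'.2 x'.2))
    have he1 : e = 1 := hM.inter_eq_one hF hu huu heM (hec.symm ▸ Subgroup.le_normalizer heM)
    rw [hee, mul_inv_eq_one] at he1
    obtain rfl : x = x' := Subtype.ext (hM.sq_inj x.2 x'.2 he1)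
    obtain rfl : g = g' := mul_left_cancel (mul_right_cancel he')
    rfl
  · rintro ⟨u, hu, huu⟩
    obtain ⟨x, hx, hx2⟩ := hF (u * z) (mul_notMem hu hM.z_mem)
    obtain ⟨y, hy, hy2⟩ := hM.exists_sqrt (M.inv_mem hx)
    have hv : z * x = y * z * y⁻¹ := by rw [hM.conj_z hy, hy2, hM.z_mul hx]
    have hc : u * (y * z * y⁻¹) = y * z * y⁻¹ * u := by
      rw [← hv]
      calc u * (z * x) = (u * z * x)⁻¹ := by rw [inv_self hx2, mul_assoc]
        _ = (z * x)⁻¹ * u⁻¹ := by group
        _ = z * x * u := by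
          rw [inv_self huu, inv_self (by rw [hM.z_mul hx]; exact hM.mul_z_sq (M.inv_mem hx))]
    refine ⟨(⟨y, hy⟩, ⟨y⁻¹ * u * y, fun h => hu (by
      simpa [mul_assoc] using Subgroup.mul_mem _ (Subgroup.mul_mem _ (Subgroup.le_normalizer hy) h)
        (Subgroup.inv_mem _ (Subgroup.le_normalizer hy))), ?_⟩), Subtype.ext (by
        show y * (y⁻¹ * u * y) * y⁻¹ = u
        group)⟩
    calc y⁻¹ * u * y * z = y⁻¹ * (u * (y * z * y⁻¹)) * y := by group
      _ = y⁻¹ * (y * z * y⁻¹ * u) * y := by rw [hc]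
      _ = z * (y⁻¹ * u * y) := by group

omit hF in
theorem card_normalizer : Nat.card M * Nat.card ↥(N ⊓ Subgroup.centralizer ({z} : Set G)) =
    Nat.card N := by
  rw [← Nat.card_prod]
  refine Nat.card_congr (Equiv.ofBijective (fun p : M × ↥(N ⊓ Subgroup.centralizer ({z} : Set G)) =>
    (⟨(p.1 : G) * p.2, Subgroup.mul_mem _ (Subgroup.le_normalizer p.1.2)
      (Subgroup.mem_inf.mp p.2.2).1⟩ : N)) ⟨?_, ?_⟩)
  · rintro ⟨x, k⟩ ⟨x', k'⟩ he
    have hd : Disjoint M (N ⊓ Subgroup.centralizer ({z} : Set G)) := by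
      rw [Subgroup.disjoint_def]
      exact fun hx hx' => hM.commute_z hx
        (Subgroup.mem_centralizer_singleton_iff.mp (Subgroup.mem_inf.mp hx').2)
    exact Subgroup.mul_injective_of_disjoint hd (congrArg Subtype.val he)
  · rintro ⟨g, hg⟩
    obtain ⟨x, hx, k, hk, hkz, rfl⟩ := hM.fac g hg
    exact ⟨(⟨x, hx⟩, ⟨k, Subgroup.mem_inf.mpr
      ⟨hk, Subgroup.mem_centralizer_singleton_iff.mpr hkz⟩⟩), rfl⟩

omit hM hF in
theorem card_centralizer (z : G) (K : Subgroup G) :
    Nat.card {g : G // g ∉ K ∧ g * z = z * g} + Nat.card ↥(K ⊓ Subgroup.centralizer ({z} : Set G)) =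
      Nat.card ↥(Subgroup.centralizer ({z} : Set G)) := by
  classical
  rw [← Nat.card_sum]
  let e : {g : G // g ∉ K ∧ g * z = z * g} ⊕ ↥(K ⊓ Subgroup.centralizer ({z} : Set G)) →
      ↥(Subgroup.centralizer ({z} : Set G)) :=
    Sum.elim (fun g => ⟨g.1, Subgroup.mem_centralizer_singleton_iff.mpr g.2.2⟩)
      (fun g => ⟨g.1, (Subgroup.mem_inf.mp g.2).2⟩)
  refine Nat.card_congr (Equiv.ofBijective e ⟨?_, ?_⟩)
  · rintro (⟨g, hg⟩ | ⟨g, hg⟩) (⟨g', hg'⟩ | ⟨g', hg'⟩) he <;>
      have he' : g = g' := congrArg Subtype.val he <;> subst he'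
    · rfl
    · exact absurd (Subgroup.mem_inf.mp hg').1 hg.1
    · exact absurd (Subgroup.mem_inf.mp hg).1 hg'.1
    · rfl
  · rintro ⟨g, hg⟩
    by_cases hgK : g ∈ K
    · exact ⟨.inr ⟨g, Subgroup.mem_inf.mpr ⟨hgK, hg⟩⟩, rfl⟩
    · exact ⟨.inl ⟨g, hgK, Subgroup.mem_centralizer_singleton_iff.mp hg⟩, rfl⟩

theorem card_invol : Nat.card {g : G // orderOf g = 2} =
    Nat.card M + Nat.card {u : G // u ∉ N ∧ u * u = 1} := by
  rw [← Nat.card_sum]
  symm
  have ho : ∀ g : G, g * g = 1 → g ≠ 1 → orderOf g = 2 := fun g h h1 =>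
    orderOf_eq_prime (by rw [pow_two]; exact h) h1
  let e : M ⊕ {u : G // u ∉ N ∧ u * u = 1} → {g : G // orderOf g = 2} :=
    Sum.elim (fun x => ⟨(x : G) * z, ho _ (hM.mul_z_sq x.2) (hM.mul_z_ne_one x.2)⟩)
      (fun u => ⟨u.1, ho _ u.2.2 fun e => u.2.1 (by rw [e]; exact Subgroup.one_mem _)⟩)
  refine Nat.card_congr (Equiv.ofBijective e ⟨?_, ?_⟩)
  · rintro (x | u) (x' | u') he <;> have he' := congrArg Subtype.val he <;>
      simp only [e, Sum.elim_inl, Sum.elim_inr] at he'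
    · rw [Subtype.ext (mul_right_cancel he')]
    · exact absurd (he' ▸ Subgroup.mul_mem _ (Subgroup.le_normalizer x.2) hM.z_mem) u'.2.1
    · exact absurd (he'.symm ▸ Subgroup.mul_mem _ (Subgroup.le_normalizer x'.2) hM.z_mem) u.2.1
    · rw [Subtype.ext he']
  · rintro ⟨g, hg⟩
    have hgg : g * g = 1 := by rw [← pow_two, ← hg, pow_orderOf_eq_one]
    by_cases hgN : g ∈ N
    · obtain ⟨x, hx, rfl⟩ := hM.exists_eq_mul_z hgN hgg (fun e => by simp [e] at hg)
      exact ⟨.inl ⟨x, hx⟩, rfl⟩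
    · exact ⟨.inr ⟨g, hgN, hgg⟩, rfl⟩

theorem exists_commute_out (hnn : ¬ M.Normal) : ∃ g : G, g ∉ N ∧ g * z = z * g := by
  by_contra hno
  have hE : IsEmpty {g : G // g ∉ N ∧ g * z = z * g} := ⟨fun g => hno ⟨g.1, g.2⟩⟩
  have h := hM.card_out_mul hF
  rw [hM.card_out hF, Nat.card_of_isEmpty (α := {g : G // g ∉ N ∧ g * z = z * g}), mul_zero, zero_mul,
    zero_add] at h
  exact hnn (Subgroup.normalizer_eq_top_iff.mp (Subgroup.eq_top_of_card_eq _ h))

/-- Either the centraliser of `z` is twice its intersection with `N`, or that intersection has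
order two. -/
theorem card_centralizer_cases (hnn : ¬ M.Normal) :
    Nat.card ↥(Subgroup.centralizer ({z} : Set G)) =
        2 * Nat.card ↥(N ⊓ Subgroup.centralizer ({z} : Set G)) ∨
      Nat.card ↥(N ⊓ Subgroup.centralizer ({z} : Set G)) = 2 := by
  classical
  refine or_iff_not_imp_right.mpr fun h2 => ?_
  obtain ⟨g₀, hg₀, hg₀z⟩ := hM.exists_commute_out hF hnn
  set H := N ⊓ Subgroup.centralizer ({z} : Set G) with hH
  have hHmem : ∀ k : G, k ∈ H ↔ k ∈ N ∧ k * z = z * k := fun k => by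
    rw [hH, Subgroup.mem_inf, Subgroup.mem_centralizer_singleton_iff]
  obtain ⟨k₀, hk₀, hk₀'⟩ : ∃ k ∈ H, k * k ≠ 1 := by
    by_contra hall
    push Not at hall
    refine h2 ?_
    have hcover : (H : Set G) = {1, z} := by
      ext k
      simp only [SetLike.mem_coe, Set.mem_insert_iff, Set.mem_singleton_iff]
      refine ⟨fun hk => or_iff_not_imp_left.mpr fun hk1 => ?_, ?_⟩
      · obtain ⟨x, hx, rfl⟩ := hM.exists_eq_mul_z ((hHmem k).mp hk).1 (hall k hk) hk1
        have hxz := ((hHmem _).mp hk).2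
        rw [mul_assoc, ← mul_assoc z x z] at hxz
        have : x = 1 := hM.commute_z hx (mul_right_cancel (by rw [mul_assoc]; exact hxz))
        rw [this, one_mul]
      · rintro (h | h) <;> rw [h]
        · exact H.one_mem
        · exact (hHmem z).mpr ⟨hM.z_mem, rfl⟩
    show Nat.card ↥(H : Set G) = 2
    rw [hcover, Nat.card_coe_set_eq, Set.ncard_pair (Ne.symm hM.z_ne)]
  have hout : Nat.card {g : G // g ∉ N ∧ g * z = z * g} = Nat.card H := by
    symm
    refine Nat.card_congr (Equiv.ofBijective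
      (fun k : H => (⟨g₀ * k, mul_notMem hg₀ ((hHmem k).mp k.2).1, by
        rw [mul_assoc, ((hHmem k).mp k.2).2, ← mul_assoc, hg₀z, mul_assoc]⟩ :
        {g : G // g ∉ N ∧ g * z = z * g})) ⟨?_, ?_⟩)
    · exact fun a b h => Subtype.ext (mul_left_cancel (congrArg Subtype.val h))
    · rintro ⟨g, hg, hgz⟩
      have hg0inv : g₀⁻¹ = g₀ := inv_self (hM.sq_of_commute hF hg₀ hg₀z)
      have hcz : g₀⁻¹ * g * z = z * (g₀⁻¹ * g) := by
        rw [hg0inv, mul_assoc, hgz, ← mul_assoc, hg₀z, mul_assoc]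
      have hin : g₀⁻¹ * g ∈ N := by
        by_contra hn
        obtain ⟨hk, hkz⟩ := (hHmem k₀).mp hk₀
        have e1 := hM.inverts_H hF hg₀ hg₀z hk hkz
        have e2 := hM.inverts_H hF hg hgz hk hkz
        have e3 := hM.inverts_H hF hn hcz hk hkz
        have e5 : g₀ * k₀⁻¹ * g₀ = k₀ := by
          rw [← e1]
          calc g₀ * (g₀ * k₀ * g₀) * g₀ = (g₀ * g₀) * k₀ * (g₀ * g₀) := by group
            _ = k₀ := by rw [hM.sq_of_commute hF hg₀ hg₀z, one_mul, mul_one]
        have e4 : g₀⁻¹ * g * k₀ * (g₀⁻¹ * g) = k₀ := by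
          nth_rw 2 [← inv_self (hM.sq_of_commute hF hn hcz)]
          rw [mul_inv_rev, inv_inv, inv_self (hM.sq_of_commute hF hg hgz), hg0inv]
          calc g₀ * g * k₀ * (g * g₀) = g₀ * (g * k₀ * g) * g₀ := by group
            _ = k₀ := by rw [e2, e5]
        rw [e4] at e3
        exact hk₀' (eq_inv_iff_mul_eq_one.mp e3)
      exact ⟨⟨g₀⁻¹ * g, (hHmem _).mpr ⟨hin, hcz⟩⟩, Subtype.ext (by simp)⟩
  have := card_centralizer z N
  rw [hout, ← hH] at this
  omega

end Hyp

end Cfsg.Agent.Lib.TICount
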