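import Mathlib
import Cfsg.Agent.Lib.TICount.Basic
import Cfsg.Agent.Lib.Perm.ZassenhausPGL

/-!
The case in which the centraliser of `z` is twice as large as its intersection with `N(M)`:
a Zassenhaus group of degree `|M| + 1`, hence `PGL₂` or `PSL₂`.
-/

set_option autoImplicit false

namespace Cfsg.Agent.Lib.TICount

open MulAction
open Cfsg.Agent.Lib.Perm
open Cfsg.Agent.Lib.Perm.Zassenhaus Cfsg.Agent.Lib.Perm.AffineCoords

variable {G : Type*} [Group G] [Finite G]

/-- A group acting freely has order dividing the number of points. -/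
theorem card_dvd_of_free {A X : Type*} [Group A] [MulAction A X]
    (h : ∀ (a : A) (x : X), a • x = x → a = 1) : Nat.card A ∣ Nat.card X := by
  have hs : ∀ x : X, stabilizer A x = ⊥ := fun x => by
    rw [eq_bot_iff]; exact fun a ha => h a x ha
  rw [Nat.card_congr (selfEquivOrbitsQuotientProd hs), Nat.card_prod]
  exact dvd_mul_left _ _

/-- The index of the centraliser of an involution is at most the number of involutions. -/
theorem index_centralizer_le {z : G} (hz : orderOf z = 2) :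
    (Subgroup.centralizer ({z} : Set G)).index ≤ Nat.card {g : G // orderOf g = 2} := by
  rw [Subgroup.index_eq_card]
  refine Nat.card_le_card_of_injective
    (Quotient.lift (fun g : G => (⟨g * z * g⁻¹, by
      rw [← MulAut.conj_apply, MulEquiv.orderOf_eq, hz]⟩ : {g : G // orderOf g = 2})) ?_) ?_
  · intro a b hab
    have h := Subgroup.mem_centralizer_singleton_iff.mp (QuotientGroup.leftRel_apply.mp hab)
    refine Subtype.ext ?_
    show a * z * a⁻¹ = b * z * b⁻¹
    calc a * z * a⁻¹ = a * (z * (a⁻¹ * b)) * (a⁻¹ * b)⁻¹ * a⁻¹ := by group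
      _ = a * ((a⁻¹ * b) * z) * (a⁻¹ * b)⁻¹ * a⁻¹ := by rw [h]
      _ = b * z * b⁻¹ := by group
  · intro x y
    induction x using Quotient.inductionOn with | _ a =>
    induction y using Quotient.inductionOn with | _ b =>
    intro he
    refine Quotient.sound (QuotientGroup.leftRel_apply.mpr ?_)
    rw [Subgroup.mem_centralizer_singleton_iff]
    have he' : a * z * a⁻¹ = b * z * b⁻¹ := congrArg Subtype.val he
    calc a⁻¹ * b * z = a⁻¹ * (b * z * b⁻¹) * b := by group
      _ = a⁻¹ * (a * z * a⁻¹) * b := by rw [he']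
      _ = z * (a⁻¹ * b) := by group

namespace Hyp

variable {M : Subgroup G} {z : G} (hM : Hyp M z) (hF : Full M)
include hM

omit [Finite G] in
theorem two_le_card [Finite M] : 2 ≤ Nat.card M :=
  M.one_lt_card_iff_ne_bot.mpr hM.ne_bot

theorem orderOf_z : orderOf z = 2 :=
  orderOf_eq_prime (by rw [pow_two]; exact hM.zz) hM.z_ne

include hF

theorem zassenhaus (hnn : ¬ M.Normal)
    (hE : Nat.card ↥(Subgroup.centralizer ({z} : Set G)) =
      2 * Nat.card ↥(Subgroup.normalizer (M : Set G) ⊓ Subgroup.centralizer ({z} : Set G))) :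
    ∃ (F : Type) (_ : Field F) (_ : Fintype F) (p : ℕ) (_ : Fact p.Prime) (_ : CharP F p),
      Fintype.card F = Nat.card M ∧ (∀ x ∈ M, x ^ p = 1) ∧
        (Nonempty (G ≃* (GL (Fin 2) F ⧸ Subgroup.center (GL (Fin 2) F))) ∨
         (Fintype.card F % 4 = 1 ∧ Nonempty (G ≃* Matrix.ProjectiveSpecialLinearGroup (Fin 2) F))) := by
  classical
  set N := Subgroup.normalizer (M : Set G) with hNdef
  set H := N ⊓ Subgroup.centralizer ({z} : Set G) with hHdef
  have hHmem : ∀ k : G, k ∈ H ↔ k ∈ N ∧ k * z = z * k := fun k => by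
    rw [hHdef, Subgroup.mem_inf, Subgroup.mem_centralizer_singleton_iff]
  have hh0 : 0 < Nat.card H := Nat.card_pos
  have hm2 : 2 ≤ Nat.card M := hM.two_le_card
  obtain ⟨u, hu, huz⟩ := hM.exists_commute_out hF hnn
  have huu := hM.sq_of_commute hF hu huz
  have hcardN : Nat.card N = Nat.card M * Nat.card H := (hM.card_normalizer).symm
  have hcE := card_centralizer z N
  have hout : Nat.card {g : G // g ∉ N ∧ g * z = z * g} = Nat.card H := by
    rw [← hHdef] at hcE; omega
  have hcardG : Nat.card G = Nat.card M * Nat.card H * (Nat.card M + 1) := by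
    have h := hM.card_out_mul hF
    rw [hM.card_out hF, hout, ← hNdef, hcardN] at h
    rw [← h]; ring
  have hidx : N.index = Nat.card M + 1 := by
    have h := Subgroup.card_mul_index N
    rw [hcardN, hcardG] at h
    exact Nat.eq_of_mul_eq_mul_left (Nat.mul_pos (by omega) hh0) h
  haveI : Fintype (G ⧸ N) := Fintype.ofFinite _
  have hcardΩ : Fintype.card (G ⧸ N) = Nat.card M + 1 := by
    rw [← Nat.card_eq_fintype_card, ← Subgroup.index_eq_card, hidx]
  set p : G ⧸ N := ((1 : G) : G ⧸ N) with hp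
  have hstab : stabilizer G p = N := stabilizer_quotient N
  have hpN : ∀ g : G, g • p = p ↔ g ∈ N := fun g => by rw [← mem_stabilizer_iff, hstab]
  have hmk : ∀ g : G, g • p = (g : G ⧸ N) := fun g => by
    rw [hp, Quotient.smul_coe, smul_eq_mul, mul_one]
  set o : G ⧸ N := u • p with hodef
  have ho : o ≠ p := fun h => hu ((hpN u).mp h)
  have hup : u • o = p := by rw [hodef, ← mul_smul, huu, one_smul]
  have hQp : ∀ x ∈ M, x • p = p := fun x hx => (hpN x).mpr (Subgroup.le_normalizer hx)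
  have hoN : ∀ g : G, g • o = o ↔ u * g * u ∈ N := fun g => by
    rw [← hpN, mul_smul, mul_smul, ← hodef]
    constructor
    · intro h; rw [h, hup]
    · intro h
      rw [← one_smul G (g • o), ← huu, mul_smul, h]
  have hH2 : ∀ g : G, g • p = p → g • o = o → g ∈ H := fun g h1 h2 => by
    rw [hpN] at h1; rw [hoN] at h2
    have i1 := hM.inverted hF hu huu h1 h2
    have hz : u * z * u = z := by rw [huz, mul_assoc, huu, mul_one]
    have e : u * (g * z) * u = g⁻¹ * z := by
      calc u * (g * z) * u = u * g * (u * u) * z * u := by rw [huu]; group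
        _ = u * g * u * (u * z * u) := by group
        _ = g⁻¹ * z := by rw [i1, hz]
    have i2 := hM.inverted hF hu huu (N.mul_mem h1 hM.z_mem)
      (by rw [e]; exact N.mul_mem (N.inv_mem h1) hM.z_mem)
    refine (hHmem g).mpr ⟨h1, ?_⟩
    rw [e, mul_inv_rev, inv_self hM.zz] at i2
    calc g * z = g * (z * g⁻¹) * g := by group
      _ = g * (g⁻¹ * z) * g := by rw [i2]
      _ = z * g := by group
  have hHfix : ∀ k ∈ H, k • p = p ∧ k • o = o := fun k hk => by
    obtain ⟨h1, h2⟩ := (hHmem k).mp hk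
    exact ⟨(hpN k).mpr h1, (hoN k).mpr (by
      rw [hM.inverts_H hF hu huz h1 h2]; exact N.inv_mem h1)⟩
  have hHeq : stabilizer G p ⊓ stabilizer G o = H := by
    ext g
    rw [Subgroup.mem_inf, mem_stabilizer_iff, mem_stabilizer_iff]
    exact ⟨fun h => hH2 g h.1 h.2, hHfix g⟩
  have hHcomm : ∀ g ∈ H, ∀ k ∈ H, g * k = k * g := by
    intro g hg k hk
    obtain ⟨h1, h2⟩ := (hHmem g).mp hg
    obtain ⟨h3, h4⟩ := (hHmem k).mp hk
    have e1 := hM.inverts_H hF hu huz h1 h2
    have e2 := hM.inverts_H hF hu huz h3 h4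
    obtain ⟨h5, h6⟩ := (hHmem _).mp (H.mul_mem hg hk)
    have e3 := hM.inverts_H hF hu huz h5 h6
    have e4 : g⁻¹ * k⁻¹ = (g * k)⁻¹ := by
      rw [← e1, ← e2, ← e3]
      calc u * g * u * (u * k * u) = u * g * (u * u) * k * u := by group
        _ = u * (g * k) * u := by rw [huu]; group
    rw [mul_inv_rev] at e4
    calc g * k = g * k * (g⁻¹ * k⁻¹) * (k * g) := by group
      _ = g * k * (k⁻¹ * g⁻¹) * (k * g) := by rw [e4]
      _ = k * g := by group
  -- `M` is semiregular away from `p`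
  have hsemi : ∀ x ∈ M, ∀ y : G ⧸ N, y ≠ p → x • y = y → x = 1 := by
    intro x hx y hy hxy
    obtain ⟨g, rfl⟩ := QuotientGroup.mk_surjective y
    have hgN : g ∉ N := fun hg => hy (by rw [← hmk, (hpN g).mpr hg])
    obtain ⟨w, hw, hw2⟩ := hF g hgN
    refine hM.inter_eq_one hF (mul_notMem hgN (Subgroup.le_normalizer hw)) hw2 hx ?_
    rw [Quotient.smul_coe, smul_eq_mul, QuotientGroup.eq, mul_inv_rev] at hxy
    have hyN : g⁻¹ * x * g ∈ N := by
      have := N.inv_mem hxy
      simpa [mul_assoc] using this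
    have e : g * w * x * (g * w) = w⁻¹ * (g⁻¹ * x * g) * w := by
      nth_rw 1 [← inv_self hw2]; group
    rw [e]
    exact N.mul_mem (N.mul_mem (N.inv_mem (Subgroup.le_normalizer hw)) hyN)
      (Subgroup.le_normalizer hw)
  have hne : ∀ y : G ⧸ N, y ≠ p → ∀ x ∈ M, x • y ≠ p := fun y hy x hx h => hy (by
    rw [← inv_smul_smul x y, h, hQp _ (M.inv_mem hx)])
  have hreg : ∀ y w : G ⧸ N, y ≠ p → w ≠ p → ∃! t : M, (t : G) • y = w := by
    intro y w hy hw
    let f : M → {w : G ⧸ N // w ≠ p} := fun t => ⟨(t : G) • y, hne y hy t t.2⟩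
    haveI : Fintype M := Fintype.ofFinite _
    have hinj : Function.Injective f := fun a b hab => by
      have h : (a : G) • y = (b : G) • y := congrArg Subtype.val hab
      refine Subtype.ext (inv_mul_eq_one.mp (hsemi _ (M.mul_mem (M.inv_mem a.2) b.2) y hy
        (by rw [mul_smul, ← h, inv_smul_smul])))
    have hbij : Function.Bijective f := by
      rw [Fintype.bijective_iff_injective_and_card]
      refine ⟨hinj, ?_⟩
      simp only [ne_eq, Fintype.card_subtype_compl, Fintype.card_subtype_eq, hcardΩ,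
        Nat.add_sub_cancel, Nat.card_eq_fintype_card]
    obtain ⟨t, ht, htu⟩ := hbij.existsUnique ⟨w, hw⟩
    exact ⟨t, congrArg Subtype.val ht, fun b hb => htu b (Subtype.ext hb)⟩
  have hT : IsKernel M p :=
    ⟨fun x hx => mem_stabilizer_iff.mpr (hQp x hx),
      fun g hg t ht => hM.conj_mem (show g ∈ N by rwa [← hstab]) ht,
      fun a ha b hb => hM.comm ha hb, hreg⟩
  have htrans : ∀ a b : G ⧸ N, a ≠ b → ∀ c : G ⧸ N, c ≠ p → ∃ g : G, g • a = p ∧ g • b = c := by
    intro a b hab c hc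
    obtain ⟨g, rfl⟩ := QuotientGroup.mk_surjective a
    have hb : g⁻¹ • b ≠ p := fun h => hab (by rw [← hmk, ← h, smul_inv_smul])
    obtain ⟨t, ht, -⟩ := hreg _ _ hb hc
    refine ⟨(t : G) * g⁻¹, ?_, by rw [mul_smul, ht]⟩
    rw [mul_smul, ← hmk, inv_smul_smul, hQp _ t.2]
  have h2 : IsMultiplyPretransitive G (G ⧸ N) 2 := by
    rw [is_two_pretransitive_iff]
    intro a b c d hab hcd
    obtain ⟨g₁, h1, h1'⟩ := htrans a b hab o ho
    obtain ⟨g₂, h2, h2'⟩ := htrans c d hcd o ho
    refine ⟨g₂⁻¹ * g₁, ?_, ?_⟩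
    · rw [mul_smul, h1, ← h2, inv_smul_smul]
    · rw [mul_smul, h1', ← h2', inv_smul_smul]
  have h3 : FixAtMostTwo G (G ⧸ N) := by
    intro g a b c hab hbc hac ha hb hc
    obtain ⟨k, hka, hkb⟩ := htrans a b hab o ho
    set d := k * g * k⁻¹ with hd
    have hfix : ∀ w : G ⧸ N, g • w = w → d • (k • w) = k • w := fun w hw => by
      rw [hd, mul_smul, mul_smul, inv_smul_smul, hw]
    have hdp : d • p = p := by rw [← hka]; exact hfix a ha
    have hdo : d • o = o := by rw [← hkb]; exact hfix b hb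
    have hdH : d ∈ H := hH2 d hdp hdo
    obtain ⟨hdN, hdz⟩ := (hHmem d).mp hdH
    by_contra hg
    have hd1 : d ≠ 1 := fun e => hg (by
      calc g = k⁻¹ * d * k := by rw [hd]; group
        _ = 1 := by rw [e]; group)
    have hcp : k • c ≠ p := fun e => hac (smul_left_cancel k (hka.trans e.symm))
    obtain ⟨⟨x, hx⟩, hxo, -⟩ := hreg o (k • c) ho hcp
    replace hxo : x • o = k • c := hxo
    have hx1 : x ≠ 1 := fun e => hbc (smul_left_cancel k (by
      rw [hkb, ← hxo, e, one_smul]))
    have hxd : x⁻¹ * d * x ∈ H := hH2 _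
      (by rw [mul_smul, mul_smul, hQp x hx, hdp, hQp _ (M.inv_mem hx)])
      (by rw [mul_smul, mul_smul, hxo, hfix c hc, ← hxo, inv_smul_smul])
    have hcom : d * x = x * d := by
      have h1 : d⁻¹ * x⁻¹ * d * x = 1 := by
        refine hM.commute_z (M.mul_mem ?_ hx) ?_
        · have := hM.conj_mem (N.inv_mem hdN) (M.inv_mem hx)
          rwa [inv_inv] at this
        · refine ((hHmem _).mp ?_).2
          have := H.mul_mem (H.inv_mem hdH) hxd
          rwa [← mul_assoc, ← mul_assoc] at this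
      calc d * x = x * d * (d⁻¹ * x⁻¹ * d * x) := by group
        _ = x * d := by rw [h1, mul_one]
    have i1 := hM.inverts_H hF hu huz hdN hdz
    set w := x * u * x⁻¹ with hw
    have hxd' : x⁻¹ * d * x = d := by rw [mul_assoc, hcom, inv_mul_cancel_left]
    have hca : u * w * d = d * (u * w) := by
      have i2 : w * d * w = d⁻¹ := by
        calc w * d * w = x * (u * (x⁻¹ * d * x) * u) * x⁻¹ := by rw [hw]; group
          _ = x * d⁻¹ * x⁻¹ := by rw [hxd', i1]
          _ = d⁻¹ := by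
            rw [(show Commute x d from hcom.symm).inv_right.eq, mul_inv_cancel_right]
      obtain ⟨h5, h6⟩ := (hHmem _).mp (H.inv_mem hdH)
      have i1' := hM.inverts_H hF hu huz h5 h6
      rw [inv_inv] at i1'
      calc u * w * d = u * (w * d * w) * w⁻¹ := by group
        _ = u * d⁻¹ * w⁻¹ := by rw [i2]
        _ = u * d⁻¹ * (u * u) * w⁻¹ := by rw [huu, mul_one]
        _ = u * d⁻¹ * u * (u * w⁻¹) := by group
        _ = d * (u * w) := by
          rw [i1', inv_self (w := w) (by
            calc w * w = x * (u * u) * x⁻¹ := by rw [hw]; group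
              _ = 1 := by rw [huu, mul_one, mul_inv_cancel])]
    have haN : u * w ∉ N := by
      intro h
      rw [← hpN, mul_smul, hw, mul_smul, mul_smul, hQp _ (M.inv_mem hx), ← hodef, hxo] at h
      refine hbc (smul_left_cancel k ?_)
      rw [hkb, hodef]
      nth_rw 1 [← h]
      rw [← mul_smul, huu, one_smul]
    obtain ⟨y, hy, hy2⟩ := hF _ haN
    have e : u * w * y * d * (u * w * y) = y⁻¹ * d * y := by
      nth_rw 1 [← inv_self hy2]
      calc (u * w * y)⁻¹ * d * (u * w * y) = y⁻¹ * ((u * w)⁻¹ * (d * (u * w))) * y := by group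
        _ = y⁻¹ * d * y := by rw [← hca, inv_mul_cancel_left]
    have hyN := Subgroup.le_normalizer (H := M) hy
    have i3 := hM.inverted hF (mul_notMem haN hyN) hy2 hdN
      (e ▸ N.mul_mem (N.mul_mem (N.inv_mem hyN) hdN) hyN)
    rw [e] at i3
    have hdd : d * d = 1 := by
      refine hM.commute_z ?_ ((hHmem _).mp (H.mul_mem hdH hdH)).2
      have hinv : d * d = d * y⁻¹ * d⁻¹ * y := by
        nth_rw 2 [show d = (y⁻¹ * d * y)⁻¹ by rw [i3, inv_inv]]
        group
      rw [hinv]
      exact M.mul_mem (hM.conj_mem hdN (M.inv_mem hy)) hy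
    exact hd1 (hM.no_inv x hx hx1 d hcom hdd)
  haveI : FaithfulSMul G (G ⧸ N) := by
    refine ⟨fun {g₁ g₂} hg => ?_⟩
    obtain ⟨c₀, hc₀, hc₀'⟩ : ∃ c₀ : G ⧸ N, c₀ ≠ p ∧ c₀ ≠ o := by
      obtain ⟨c, -, hc⟩ := Finset.exists_mem_notMem_of_card_lt_card
        (s := ({p, o} : Finset (G ⧸ N))) (t := Finset.univ)
        (lt_of_le_of_lt Finset.card_le_two (by rw [Finset.card_univ, hcardΩ]; omega))
      exact ⟨c, fun e => hc (by simp [e]), fun e => hc (by simp [e])⟩
    refine inv_mul_eq_one.mp (h3 (g₁⁻¹ * g₂) p o c₀ ho.symm hc₀'.symm hc₀.symm ?_ ?_ ?_) <;>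
      rw [mul_smul, ← hg, inv_smul_smul]
  -- the order of `H`
  have hfree : ∀ k ∈ H, ∀ x ∈ M, x ≠ 1 → k * x * k⁻¹ = x → k = 1 := by
    intro k hk x hx hx1 hkx
    refine h3 k p o (x • o) ho.symm (fun e => hx1 (hsemi x hx o ho e.symm))
      (hne o ho x hx).symm (hHfix k hk).1 (hHfix k hk).2 ?_
    rw [← mul_smul, mul_inv_eq_iff_eq_mul.mp hkx, mul_smul, (hHfix k hk).2]
  have hdvd : Nat.card H ∣ Nat.card M - 1 := by
    haveI : Fintype M := Fintype.ofFinite _
    letI act : MulAction H {x : M // x ≠ 1} :=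
      { smul := fun k x => ⟨⟨(k : G) * x.1 * (k : G)⁻¹, hM.conj_mem ((hHmem k).mp k.2).1 x.1.2⟩,
          fun e => x.2 (Subtype.ext (by simpa using congrArg Subtype.val e))⟩
        one_smul := fun x => Subtype.ext (Subtype.ext (by
          show ((1 : H) : G) * x.1 * ((1 : H) : G)⁻¹ = x.1
          simp))
        mul_smul := fun a b x => Subtype.ext (Subtype.ext (by
          show ((a * b : H) : G) * x.1 * ((a * b : H) : G)⁻¹ =
            (a : G) * ((b : G) * x.1 * (b : G)⁻¹) * (a : G)⁻¹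
          rw [Subgroup.coe_mul]; group)) }
    have h := card_dvd_of_free (A := H) (X := {x : M // x ≠ 1}) fun k x hkx => Subtype.ext
      (hfree k k.2 x.1 x.1.2 (fun e => x.2 (Subtype.ext e)) (congrArg (fun t => ((t.1 : M) : G)) hkx))
    rwa [Nat.card_eq_fintype_card (α := {x : M // x ≠ 1}), Fintype.card_subtype_compl,
      Fintype.card_subtype_eq, ← Nat.card_eq_fintype_card] at h
  have hbound : Nat.card M + 1 ≤ 2 + 2 * Nat.card H := by
    have h := index_centralizer_le hM.orderOf_z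
    rw [hM.card_invol hF, hM.card_out hF, hout] at h
    have h' := Subgroup.card_mul_index (Subgroup.centralizer ({z} : Set G))
    rw [hE, hcardG] at h'
    have := Nat.mul_le_mul_left (2 * Nat.card H) h
    rw [h'] at this
    refine le_of_mul_le_mul_left (a := Nat.card M * Nat.card H) ?_
      (Nat.mul_pos (show 0 < Nat.card M by omega) hh0)
    calc _ ≤ _ := this
      _ = _ := by ring
  have heven : 2 ∣ Nat.card H := by
    rw [← hM.orderOf_z]
    exact Subgroup.orderOf_dvd_natCard _ ((hHmem z).mpr ⟨hM.z_mem, rfl⟩)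
  have hcases : Nat.card H = Nat.card M - 1 ∨ 2 * Nat.card H = Nat.card M - 1 := by
    obtain ⟨c, hc⟩ := hdvd
    rcases c with _ | _ | _ | c
    · omega
    · omega
    · omega
    · rw [show Nat.card H * (c + 1 + 1 + 1) = c * Nat.card H + 3 * Nat.card H by ring] at hc
      omega
  -- `M` is elementary abelian
  obtain ⟨q, hq, hqM⟩ := Nat.exists_prime_and_dvd (show Nat.card M ≠ 1 by omega)
  haveI := Fact.mk hq
  have hexp : ∀ x ∈ M, x ^ q = 1 := by
    obtain ⟨⟨x₀, hx₀⟩, hord⟩ := exists_prime_orderOf_dvd_card' (G := M) q hqM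
    rw [Subgroup.orderOf_mk] at hord
    have hx01 : x₀ ≠ 1 := fun e => hq.ne_one (by rw [← hord, e, orderOf_one])
    let S : Subgroup G :=
      { carrier := {x | x ∈ M ∧ x ^ q = 1}
        one_mem' := ⟨M.one_mem, one_pow _⟩
        mul_mem' := fun {a b} ha hb => ⟨M.mul_mem ha.1 hb.1, by
          rw [(show Commute a b from hM.comm ha.1 hb.1).mul_pow, ha.2, hb.2, one_mul]⟩
        inv_mem' := fun {a} ha => ⟨M.inv_mem ha.1, by rw [inv_pow, ha.2, inv_one]⟩ }
    have hSM : S ≤ M := fun x hx => hx.1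
    have hpow : ∀ k : G, (k * x₀ * k⁻¹) ^ q = 1 := fun k => by
      rw [← MulAut.conj_apply, ← map_pow, ← hord, pow_orderOf_eq_one, map_one]
    let f : Option H → S := fun a => a.elim 1
      (fun k => ⟨(k : G) * x₀ * (k : G)⁻¹, hM.conj_mem ((hHmem k).mp k.2).1 hx₀, hpow k⟩)
    have hf : Function.Injective f := by
      rintro (_ | a) (_ | b) he <;> have he' := congrArg Subtype.val he <;>
        simp only [f, Option.elim_none, Option.elim_some, Subgroup.coe_one] at he'
      · rfl
      · exact absurd (conj_eq_one_iff.mp he'.symm) hx01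
      · exact absurd (conj_eq_one_iff.mp he') hx01
      · refine congrArg some (Subtype.ext (inv_mul_eq_one.mp
          (hfree _ (H.mul_mem (H.inv_mem b.2) a.2) x₀ hx₀ hx01 ?_)).symm)
        calc (b : G)⁻¹ * a * x₀ * ((b : G)⁻¹ * a)⁻¹ = (b : G)⁻¹ * ((a : G) * x₀ * (a : G)⁻¹) * b := by
              group
          _ = x₀ := by rw [he']; group
    haveI : Fintype H := Fintype.ofFinite _
    have hcS := Nat.card_le_card_of_injective f hf
    rw [Nat.card_eq_fintype_card (α := Option H), Fintype.card_option,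
      ← Nat.card_eq_fintype_card] at hcS
    have hS : S = M := by
      refine Subgroup.eq_of_le_of_card_ge hSM ?_
      obtain ⟨c, hc⟩ := Subgroup.card_dvd_of_le hSM
      rcases c with _ | _ | c
      · omega
      · omega
      · rw [show Nat.card S * (c + 1 + 1) = c * Nat.card S + 2 * Nat.card S by ring] at hc
        omega
    exact fun x hx => ((hS ▸ hx : x ∈ S)).2
  have hchar : ∀ (F : Type) [Field F] [Fintype F], Fintype.card F = Nat.card M → CharP F q := by
    intro F _ _ hF'
    obtain ⟨k, hk⟩ := IsPGroup.iff_card.mp (show IsPGroup q M from fun x => ⟨1, Subtype.ext (by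
      rw [pow_one]; exact hexp x x.2)⟩)
    obtain ⟨n, hn, hn'⟩ := FiniteField.card F (ringChar F)
    rw [hF', hk] at hn'
    have hdiv : ringChar F ∣ q ^ k := hn' ▸ dvd_pow_self _ n.ne_zero
    rw [← (Nat.prime_dvd_prime_iff_eq hn hq).mp (hn.dvd_of_dvd_pow hdiv)]
    exact ringChar.charP F
  obtain ⟨c₀, hc₀, hc₀'⟩ : ∃ c₀ : G ⧸ N, c₀ ≠ p ∧ c₀ ≠ o := by
    obtain ⟨c, -, hc⟩ := Finset.exists_mem_notMem_of_card_lt_card
      (s := ({p, o} : Finset (G ⧸ N))) (t := Finset.univ)
      (lt_of_le_of_lt Finset.card_le_two (by rw [Finset.card_univ, hcardΩ]; omega))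
    exact ⟨c, fun e => hc (by simp [e]), fun e => hc (by simp [e])⟩
  have hHcomm' : ∀ g ∈ stabilizer G p ⊓ stabilizer G o, ∀ k ∈ stabilizer G p ⊓ stabilizer G o,
      g * k = k * g := by rw [hHeq]; exact hHcomm
  have huinv : u⁻¹ = u := inv_self huu
  rcases hcases with hfull | hhalf
  · -- sharply triply transitive
    have huc : u • c₀ ≠ p ∧ u • c₀ ≠ o := by
      refine ⟨fun h => hc₀' ?_, fun h => hc₀ ?_⟩
      · rw [← one_smul G c₀, ← huu, mul_smul, h]
      · rw [← one_smul G c₀, ← huu, mul_smul, h, hup]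
    let f : H → {y : G ⧸ N // y ≠ p ∧ y ≠ o} := fun k => ⟨(k : G) • c₀,
      fun h => hc₀ (smul_left_cancel (k : G) (h.trans (hHfix k k.2).1.symm)),
      fun h => hc₀' (smul_left_cancel (k : G) (h.trans (hHfix k k.2).2.symm))⟩
    have hinj : Function.Injective f := fun a b hab => by
      have h : (a : G) • c₀ = (b : G) • c₀ := congrArg Subtype.val hab
      refine Subtype.ext (inv_mul_eq_one.mp (h3 _ p o c₀ ho.symm hc₀'.symm hc₀.symm ?_ ?_ ?_))
      · exact (hHfix _ (H.mul_mem (H.inv_mem a.2) b.2)).1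
      · exact (hHfix _ (H.mul_mem (H.inv_mem a.2) b.2)).2
      · rw [mul_smul, ← h, inv_smul_smul]
    haveI : Fintype H := Fintype.ofFinite _
    have hbij : Function.Bijective f := by
      rw [Fintype.bijective_iff_injective_and_card]
      refine ⟨hinj, ?_⟩
      have hcY : Fintype.card {y : G ⧸ N // y ≠ p ∧ y ≠ o} = Nat.card M + 1 - 2 := by
        rw [Fintype.card_subtype,
          show (Finset.univ.filter fun y : G ⧸ N => y ≠ p ∧ y ≠ o) = Finset.univ \ {p, o} by
            ext y; simp,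
          Finset.card_univ_diff, Finset.card_pair ho.symm, hcardΩ]
      rw [hcY, ← Nat.card_eq_fintype_card, hfull]
      omega
    obtain ⟨k, hk⟩ := hbij.surjective ⟨u • c₀, huc⟩
    replace hk : (k : G) • c₀ = u • c₀ := congrArg Subtype.val hk
    obtain ⟨hkN, hkz⟩ := (hHmem k).mp k.2
    have hkinv := hHfix _ (H.inv_mem k.2)
    obtain ⟨F, iF, iFF, hF', ⟨e⟩⟩ := ZassenhausPGL.exists_mulEquiv_PGL (s := (k : G)⁻¹ * u) h2 h3 hT
      ho hc₀ hc₀' hHcomm' (by rw [hHeq, hfull, hcardΩ]; omega)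
      (by rw [mul_smul, ← hodef, hkinv.2]) (by rw [mul_smul, hup, hkinv.1])
      (by rw [mul_smul, ← hk, inv_smul_smul]) (by
        rw [hHeq]
        intro a ha
        obtain ⟨h5, h6⟩ := (hHmem _).mp (H.mul_mem ha ha)
        have e1 := hM.inverts_H hF hu huz h5 h6
        rw [mul_inv_rev, inv_inv, huinv]
        calc (k : G)⁻¹ * u * (a * a) * (u * k) = (k : G)⁻¹ * (u * (a * a) * u) * k := by group
          _ = (k : G)⁻¹ * (a * a)⁻¹ * k := by rw [e1]
          _ = _ := by
            rw [hHcomm _ (H.inv_mem k.2) _ (H.inv_mem (H.mul_mem ha ha)), inv_mul_cancel_right])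
    haveI := hchar F (by omega)
    exact ⟨F, iF, iFF, q, ⟨hq⟩, inferInstance, by omega, hexp, Or.inl ⟨e⟩⟩
  · obtain ⟨F, iF, iFF, hF', -, he⟩ := ZassenhausPGL.exists_mulEquiv_PSL h2 h3 hT ho hc₀ hc₀'
      hHcomm' (by rw [hHeq, hcardΩ]; omega) (by
        rw [hHeq]
        intro s hsp hso a ha
        have hs : u * s ∈ H := hH2 _ (by rw [mul_smul, hsp, hup])
          (by rw [mul_smul, hso, ← hodef])
        obtain ⟨h5, h6⟩ := (hHmem _).mp ha
        have e1 := hM.inverts_H hF hu huz h5 h6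
        have e2 : s = u * (u * s) := by rw [← mul_assoc, huu, one_mul]
        calc s * a * s⁻¹ = u * (u * s) * a * (u * (u * s))⁻¹ := by rw [← e2]
          _ = u * ((u * s) * a * (u * s)⁻¹) * u⁻¹ := by group
          _ = u * a * u := by rw [hHcomm _ hs _ ha, mul_inv_cancel_right, huinv]
          _ = a⁻¹ := e1)
    haveI := hchar F (by omega)
    refine ⟨F, iF, iFF, q, ⟨hq⟩, inferInstance, by omega, hexp, Or.inr ⟨?_, he⟩⟩
    omega

end Hyp

end Cfsg.Agent.Lib.TICount
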