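import Mathlib
import Cfsg.Agent.Lib.TICount.Zassenhaus
import Cfsg.Agent.Lib.SECount.Zassenhaus
import Cfsg.Agent.Lib.SL2.Dickson
import Cfsg.Agent.Lib.LinGroup.SLTwoTwoSylow
import Cfsg.Agent.Lib.Involution.BaerSuzuki
import Cfsg.Agent.Lib.Involution.Basic
import Cfsg.Agent.Lib.Zassenhaus.RegularDegree

/-!
The case `N(M) ∩ C(z) = ⟨z⟩`: the centraliser of `z` is elementary abelian, and the group is
either `PSL₂(2^e)` or an extension of an elementary abelian 2-group by `N(M)`.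
-/

set_option autoImplicit false

namespace Cfsg.Agent.Lib.TICount

variable {G : Type*} [Group G] [Finite G]

theorem conj_of_index_eq {z : G} (hz : orderOf z = 2)
    (h : (Subgroup.centralizer ({z} : Set G)).index = Nat.card {g : G // orderOf g = 2})
    {w : G} (hw : orderOf w = 2) : ∃ a : G, w = a * z * a⁻¹ := by
  rw [Subgroup.index_eq_card] at h
  let f : G ⧸ Subgroup.centralizer ({z} : Set G) → {g : G // orderOf g = 2} := fun x =>
    ⟨x.out * z * x.out⁻¹, by rw [← MulAut.conj_apply, MulEquiv.orderOf_eq, hz]⟩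
  have hf : Function.Injective f := by
    intro x y he
    rw [← QuotientGroup.out_eq' x, ← QuotientGroup.out_eq' y, QuotientGroup.eq,
      Subgroup.mem_centralizer_singleton_iff]
    have he' : x.out * z * x.out⁻¹ = y.out * z * y.out⁻¹ := congrArg Subtype.val he
    calc x.out⁻¹ * y.out * z = x.out⁻¹ * (y.out * z * y.out⁻¹) * y.out := by group
      _ = x.out⁻¹ * (x.out * z * x.out⁻¹) * y.out := by rw [he']
      _ = z * (x.out⁻¹ * y.out) := by group
  obtain ⟨x, hx⟩ := ((Nat.bijective_iff_injective_and_card f).2 ⟨hf, h⟩).surjective ⟨w, hw⟩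
  exact ⟨x.out, (congrArg Subtype.val hx).symm⟩

theorem eq_two_mul_of_dvd {a j : ℕ} (ha : 1 ≤ a) (hj1 : 1 ≤ j) (hj : j ≤ 2 * a + 1)
    (h : 2 ^ a + 1 ∣ 2 ^ j - 1) : j = 2 * a := by
  rcases Nat.lt_or_ge a j with hlt | hge
  · obtain ⟨i, rfl⟩ : ∃ i, j = a + i := ⟨j - a, by omega⟩
    have h1 : 2 ^ a + 1 ∣ 2 ^ (a + i) + 2 ^ i :=
      ⟨2 ^ i, by rw [pow_add]; ring⟩
    have h2 : 2 ^ a + 1 ∣ 2 ^ i + 1 := by
      have := Nat.dvd_sub h1 h
      have hpos : 1 ≤ 2 ^ (a + i) := Nat.one_le_two_pow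
      have hpos' : 1 ≤ 2 ^ i := Nat.one_le_two_pow
      rwa [show 2 ^ (a + i) + 2 ^ i - (2 ^ (a + i) - 1) = 2 ^ i + 1 by omega] at this
    have hpi : 1 ≤ 2 ^ i := Nat.one_le_two_pow
    rcases lt_trichotomy i a with hi | hi | hi
    · have := Nat.le_of_dvd (Nat.succ_pos _) h2
      have := Nat.pow_lt_pow_right (show 1 < 2 by norm_num) hi
      omega
    · omega
    · obtain rfl : i = a + 1 := by omega
      exfalso
      have h3 : 2 ^ a + 1 ∣ 2 * (2 ^ a + 1) := dvd_mul_left _ _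
      have := Nat.dvd_sub h3 h2
      rw [show 2 * (2 ^ a + 1) - (2 ^ (a + 1) + 1) = 1 by rw [pow_succ]; omega, Nat.dvd_one] at this
      have : 1 ≤ 2 ^ a := Nat.one_le_two_pow
      omega
  · exfalso
    have h1 : 2 ≤ 2 ^ j := le_self_pow₀ (by norm_num) (by omega)
    have h2 := Nat.pow_le_pow_right (show 0 < 2 by norm_num) hge
    have := Nat.le_of_dvd (by omega) h
    omega

namespace Hyp

variable {M : Subgroup G} {z : G} (hM : Hyp M z)
include hM

theorem not_two_dvd : ¬ 2 ∣ Nat.card M := by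
  intro h
  obtain ⟨⟨x, hx⟩, hord⟩ := exists_prime_orderOf_dvd_card' (G := M) 2 h
  rw [Subgroup.orderOf_mk] at hord
  have := hM.sq_eq_one hx (Cfsg.Agent.Lib.Involution.mul_self_eq_one hord)
  rw [this, orderOf_one] at hord
  omega

/-- The case `|M| = t + 1`. -/
theorem affine {a : ℕ} (ha : 1 ≤ a) (hm : Nat.card M = 2 ^ a + 1)
    (hE : Nat.card ↥(Subgroup.centralizer ({z} : Set G)) = 2 ^ (a + 1))
    (hG : Nat.card G = Nat.card M * 2 ^ (2 * a + 1))
    (hN : Nat.card ↥(Subgroup.normalizer (M : Set G)) = Nat.card M * 2) :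
    ∃ (d : ℕ) (E : Subgroup G), 1 ≤ d ∧ E.Normal ∧
      (IsMulCommutative E ∧ ∀ e ∈ E, e ^ 2 = 1) ∧ Nat.card E = 2 ^ (2 * d) ∧
      E ⊓ Subgroup.normalizer (M : Set G) = ⊥ ∧ E ⊔ Subgroup.normalizer (M : Set G) = ⊤ ∧
      Nonempty (↥(Subgroup.normalizer (M : Set G)) ≃* DihedralGroup (2 ^ d + 1)) := by
  classical
  set N := Subgroup.normalizer (M : Set G) with hNdef
  haveI : Fact (Nat.Prime 2) := ⟨Nat.prime_two⟩
  have hidxM : M.index = 2 ^ (2 * a + 1) := by
    have h := Subgroup.card_mul_index M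
    rw [hG] at h
    exact Nat.eq_of_mul_eq_mul_left Nat.card_pos h
  have hmodd := hM.not_two_dvd
  have hconjz : ∀ w : G, w ∈ N → w * w = 1 → w ≠ 1 → ∃ y : G, w = y * z * y⁻¹ := by
    intro w hw hww hw1
    obtain ⟨x, hx, rfl⟩ := hM.exists_eq_mul_z hw hww hw1
    obtain ⟨y, hy, rfl⟩ := hM.exists_sqrt hx
    exact ⟨y, (hM.conj_z hy).symm⟩
  obtain ⟨T⟩ : Nonempty (Sylow 2 G) := inferInstance
  have hTdvd : 2 ^ (2 * a + 1) ∣ Nat.card (T : Subgroup G) :=
    T.pow_dvd_card_of_pow_dvd_card (hG ▸ dvd_mul_left _ _)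
  haveI hTnt : Nontrivial (T : Subgroup G) := by
    rw [← Finite.one_lt_card_iff_nontrivial]
    exact lt_of_lt_of_le (Nat.one_lt_two_pow (by omega)) (Nat.le_of_dvd Nat.card_pos hTdvd)
  haveI := T.isPGroup'.center_nontrivial
  obtain ⟨n, hn, hcard⟩ := (T.isPGroup'.to_subgroup (Subgroup.center (T : Subgroup G))).nontrivial_iff_card.1
    inferInstance
  obtain ⟨w, hw⟩ := exists_prime_orderOf_dvd_card' (G := Subgroup.center (T : Subgroup G)) 2
    (hcard ▸ dvd_pow_self 2 hn.ne')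
  have hwG : orderOf ((w.1 : G)) = 2 := by rw [Subgroup.orderOf_coe, Subgroup.orderOf_coe, hw]
  have hww := Cfsg.Agent.Lib.Involution.mul_self_eq_one hwG
  have hnotconj : ∀ g : G, (w.1 : G) ≠ g * z * g⁻¹ := by
    intro g hg
    have hle : (T : Subgroup G).map (MulAut.conj g⁻¹).toMonoidHom ≤
        Subgroup.centralizer ({z} : Set G) := by
      rintro _ ⟨s, hs, rfl⟩
      rw [Subgroup.mem_centralizer_singleton_iff, MulEquiv.coe_toMonoidHom, MulAut.conj_apply,
        inv_inv]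
      have hc : s * (w.1 : G) = w.1 * s :=
        congrArg Subtype.val (Subgroup.mem_center_iff.1 w.2 ⟨s, hs⟩)
      rw [hg] at hc
      calc g⁻¹ * s * g * z = g⁻¹ * (s * (g * z * g⁻¹)) * g := by group
        _ = g⁻¹ * (g * z * g⁻¹ * s) * g := by rw [hc]
        _ = z * (g⁻¹ * s * g) := by group
    have h1 := Subgroup.card_dvd_of_le hle
    rw [Subgroup.card_map_of_injective (MulEquiv.injective _), hE] at h1
    have := Nat.le_of_dvd (Nat.two_pow_pos _) (hTdvd.trans h1)
    have := Nat.pow_lt_pow_right (show 1 < 2 by norm_num) (show a + 1 < 2 * a + 1 by omega)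
    omega
  -- `w` lies in a normal 2-subgroup
  have hBS : ∀ g : G, IsPGroup 2 (Subgroup.closure ({(w.1 : G), g * w.1 * g⁻¹} : Set G)) := by
    intro g
    set v := g * (w.1 : G) * g⁻¹ with hv
    have hvv : v * v = 1 := by
      calc v * v = g * ((w.1 : G) * w.1) * g⁻¹ := by rw [hv]; group
        _ = 1 := by rw [hww, mul_one, mul_inv_cancel]
    obtain ⟨k, hk⟩ | ⟨p, hp, hpdvd, hpodd⟩ := Nat.eq_two_pow_or_exists_odd_prime_and_dvd (orderOf ((w.1 : G) * v))
    · exact Cfsg.Agent.Lib.Involution.isPGroup_two_closure_pair hww hvv k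
        (hk ▸ pow_orderOf_eq_one _)
    · exfalso
      haveI : Fact p.Prime := ⟨hp⟩
      set c₀ := ((w.1 : G) * v) ^ (orderOf ((w.1 : G) * v) / p) with hc₀
      have hord : orderOf c₀ = p := orderOf_pow_orderOf_div (orderOf_pos _).ne' hpdvd
      have hinv : (w.1 : G) * c₀ * w.1 = c₀⁻¹ := by
        have h1 : MulAut.conj (w.1 : G) ((w.1 : G) * v) = ((w.1 : G) * v)⁻¹ := by
          rw [MulAut.conj_apply, mul_inv_rev, inv_self hww, inv_self hvv, ← mul_assoc, hww, one_mul]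
        have h2 : MulAut.conj (w.1 : G) c₀ = c₀⁻¹ := by rw [hc₀, map_pow, h1, inv_pow]
        rwa [MulAut.conj_apply, inv_self hww] at h2
      have hp2 : ¬ p ∣ 2 := fun h => by
        have := (Nat.prime_dvd_prime_iff_eq hp Nat.prime_two).mp h
        rw [this] at hpodd
        exact absurd hpodd (by decide)
      obtain ⟨S⟩ : Nonempty (Sylow p M) := inferInstance
      have hQp : IsPGroup p ((S : Subgroup M).map M.subtype) := S.isPGroup'.map _
      have hQi : ¬ p ∣ ((S : Subgroup M).map M.subtype).index := by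
        rw [Subgroup.index_map_subtype, hidxM]
        intro h
        rcases hp.dvd_mul.mp h with h | h
        · exact S.not_dvd_index h
        · exact hp2 (hp.dvd_of_dvd_pow h)
      obtain ⟨R, hR⟩ := (IsPGroup.of_card (p := p) (G := Subgroup.zpowers c₀) (n := 1)
        (by rw [pow_one, Nat.card_zpowers, hord])).exists_le_sylow
      obtain ⟨h, hh⟩ := MulAction.exists_smul_eq G R (hQp.toSylow hQi)
      have hmem : h * c₀ * h⁻¹ ∈ M := by
        have h1 : h * c₀ * h⁻¹ ∈ ((hQp.toSylow hQi : Sylow p G) : Subgroup G) := by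
          rw [← hh, Sylow.coe_subgroup_smul, Subgroup.pointwise_smul_def]
          exact ⟨c₀, hR (Subgroup.mem_zpowers c₀), rfl⟩
        obtain ⟨y, -, hy⟩ := h1
        rw [← hy]
        exact y.2
      set x := h * c₀ * h⁻¹ with hx
      have hx1 : x ≠ 1 := fun e => by
        rw [hx, conj_eq_one_iff] at e
        rw [e, orderOf_one] at hord
        exact hp.ne_one hord.symm
      set w' := h * (w.1 : G) * h⁻¹ with hw'
      have hw'2 : w' * w' = 1 := by
        calc w' * w' = h * ((w.1 : G) * w.1) * h⁻¹ := by rw [hw']; group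
          _ = 1 := by rw [hww, mul_one, mul_inv_cancel]
      have hw'N : w' ∈ N := hM.ti w' x hmem hx1 (by
        rw [show w' * x * w'⁻¹ = h * ((w.1 : G) * c₀ * (w.1 : G)⁻¹) * h⁻¹ by rw [hx, hw']; group,
          inv_self hww, hinv, show h * c₀⁻¹ * h⁻¹ = x⁻¹ by rw [hx]; group]
        exact M.inv_mem hmem)
      obtain ⟨y, hy⟩ := hconjz w' hw'N hw'2 (fun e => by
        rw [hw', conj_eq_one_iff] at e
        rw [e, orderOf_one] at hwG
        omega)
      exact hnotconj (h⁻¹ * y) (by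
        calc (w.1 : G) = h⁻¹ * w' * h := by rw [hw']; group
          _ = _ := by rw [hy]; group)
  obtain ⟨P, hPn, hP2, hwP⟩ := Cfsg.Agent.Lib.Involution.baer_suzuki_element _ hBS
  let E : Subgroup G :=
    { carrier := {x | x ∈ P ∧ (∀ y ∈ P, x * y = y * x) ∧ x * x = 1}
      one_mem' := ⟨P.one_mem, fun y _ => by simp, one_mul 1⟩
      mul_mem' := fun {a b} ha hb => ⟨P.mul_mem ha.1 hb.1,
        fun y hy => by rw [mul_assoc, hb.2.1 y hy, ← mul_assoc, ha.2.1 y hy, mul_assoc], by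
        calc a * b * (a * b) = a * (b * a) * b := by group
          _ = a * (a * b) * b := by rw [hb.2.1 a ha.1]
          _ = (a * a) * (b * b) := by group
          _ = 1 := by rw [ha.2.2, hb.2.2, one_mul]⟩
      inv_mem' := fun {a} ha => by
        have h : a⁻¹ = a := inv_self ha.2.2
        exact h.symm ▸ ha }
  have hEn : E.Normal := ⟨fun x hx g => ⟨hPn.conj_mem x hx.1 g, fun y hy => by
    have h1 := hx.2.1 (g⁻¹ * y * g) (by simpa using hPn.conj_mem y hy g⁻¹)
    calc g * x * g⁻¹ * y = g * (x * (g⁻¹ * y * g)) * g⁻¹ := by group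
      _ = g * ((g⁻¹ * y * g) * x) * g⁻¹ := by rw [h1]
      _ = y * (g * x * g⁻¹) := by group, by
    calc g * x * g⁻¹ * (g * x * g⁻¹) = g * (x * x) * g⁻¹ := by group
      _ = 1 := by rw [hx.2.2, mul_one, mul_inv_cancel]⟩⟩
  have hE2 : ∀ e ∈ E, e ^ 2 = 1 := fun e he => by rw [pow_two]; exact he.2.2
  have hEc : ∀ e ∈ E, ∀ f ∈ E, e * f = f * e := fun e he f hf => he.2.1 f hf.1
  haveI hEnt : Nontrivial E := by
    haveI : Nontrivial P := ⟨⟨⟨_, hwP⟩, 1, fun e => by
      have e' : ((w.1 : G)) = 1 := congrArg Subtype.val e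
      rw [e', orderOf_one] at hwG
      omega⟩⟩
    haveI := hP2.center_nontrivial
    obtain ⟨n', hn', hcard'⟩ := (hP2.to_subgroup (Subgroup.center P)).nontrivial_iff_card.1 inferInstance
    obtain ⟨e, he⟩ := exists_prime_orderOf_dvd_card' (G := Subgroup.center P) 2
      (hcard' ▸ dvd_pow_self 2 hn'.ne')
    rw [← Subgroup.orderOf_coe, ← Subgroup.orderOf_coe] at he
    exact ⟨⟨⟨_, (e : P).2, fun y hy => (congrArg Subtype.val (Subgroup.mem_center_iff.1 e.2 ⟨y, hy⟩)).symm,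
      Cfsg.Agent.Lib.Involution.mul_self_eq_one he⟩, 1, fun e' => by
        have e'' : ((e : P) : G) = 1 := congrArg Subtype.val e'
        rw [e'', orderOf_one] at he
        omega⟩⟩
  obtain ⟨j, hj⟩ := IsPGroup.iff_card.mp (show IsPGroup 2 E from fun x => ⟨1, Subtype.ext (by
    rw [pow_one]; exact hE2 x x.2)⟩)
  have hfix : ∀ x ∈ M, x ≠ 1 → ∀ e ∈ E, x * e = e * x → e = 1 := fun x hx hx1 e he h =>
    hM.no_inv x hx hx1 e h.symm he.2.2
  have hdvd : Nat.card M ∣ Nat.card E - 1 := by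
    haveI : Fintype E := Fintype.ofFinite _
    letI act : MulAction M {e : E // e ≠ 1} :=
      { smul := fun x e => ⟨⟨(x : G) * e.1 * (x : G)⁻¹, hEn.conj_mem _ e.1.2 _⟩,
          fun h => e.2 (Subtype.ext (by simpa using congrArg Subtype.val h))⟩
        one_smul := fun e => Subtype.ext (Subtype.ext (by
          show ((1 : M) : G) * e.1 * ((1 : M) : G)⁻¹ = e.1
          simp))
        mul_smul := fun x y e => Subtype.ext (Subtype.ext (by
          show ((x * y : M) : G) * e.1 * ((x * y : M) : G)⁻¹ =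
            (x : G) * ((y : G) * e.1 * (y : G)⁻¹) * (x : G)⁻¹
          rw [Subgroup.coe_mul]; group)) }
    have h := card_dvd_of_free (A := M) (X := {e : E // e ≠ 1}) fun x e hxe => by
      by_contra hx1
      exact e.2 (Subtype.ext (hfix x x.2 (fun h => hx1 (Subtype.ext h)) _ e.1.2
        (mul_inv_eq_iff_eq_mul.mp (congrArg (fun t => ((t.1 : E) : G)) hxe))))
    rwa [Nat.card_eq_fintype_card (α := {e : E // e ≠ 1}), Fintype.card_subtype_compl,
      Fintype.card_subtype_eq, ← Nat.card_eq_fintype_card] at h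
  have hj1 : 1 ≤ j := by
    rcases Nat.eq_zero_or_pos j with rfl | h
    · rw [pow_zero] at hj
      have := Finite.one_lt_card (α := E)
      omega
    · exact h
  have hj2 : j ≤ 2 * a + 1 := by
    have h := Subgroup.card_subgroup_dvd_card E
    rw [hj, hG] at h
    exact Nat.pow_dvd_pow_iff_le_right'.mp
      ((((Nat.prime_two.coprime_iff_not_dvd.mpr hmodd).pow_left j).dvd_of_dvd_mul_left h))
  rw [hj, hm] at hdvd
  obtain rfl : j = 2 * a := eq_two_mul_of_dvd ha hj1 hj2 hdvd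
  have hint : E ⊓ N = ⊥ := by
    rw [eq_bot_iff]
    intro e he
    obtain ⟨heE, heN⟩ := Subgroup.mem_inf.mp he
    rw [Subgroup.mem_bot]
    by_contra he1
    obtain ⟨x, hx, rfl⟩ := hM.exists_eq_mul_z heN heE.2.2 he1
    obtain ⟨⟨y, hy⟩, hy1⟩ := (Subgroup.ne_bot_iff_exists_ne_one).mp hM.ne_bot
    have hyE : y * (x * z) * y⁻¹ * (x * z) ∈ E := E.mul_mem (hEn.conj_mem _ heE y) heE
    have hval : y * (x * z) * y⁻¹ * (x * z) = y * y := by
      have hzy : z * y⁻¹ = y * z := by rw [hM.z_mul (M.inv_mem hy), inv_inv]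
      calc y * (x * z) * y⁻¹ * (x * z) = y * x * (z * y⁻¹) * (x * z) := by group
        _ = y * x * (y * z) * (x * z) := by rw [hzy]
        _ = y * x * y * (z * x) * z := by group
        _ = y * x * y * (x⁻¹ * z) * z := by rw [hM.z_mul hx]
        _ = y * (x * y) * x⁻¹ * (z * z) := by group
        _ = y * (y * x) * x⁻¹ * (z * z) := by rw [hM.comm hx hy]
        _ = y * y := by rw [hM.zz]; group
    rw [hval] at hyE
    exact hy1 (Subtype.ext (hM.sq_eq_one hy (hM.sq_eq_one (M.mul_mem hy hy) hyE.2.2)))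
  have hsup : E ⊔ N = ⊤ := by
    refine (Subgroup.isComplement'_of_card_mul_and_disjoint ?_ (disjoint_iff.mpr hint)).sup_eq_top
    rw [hj, hN, hG, pow_succ]
    ring
  have hcyc : IsCyclic M := by
    letI : CommGroup E := { E.toGroup with mul_comm := fun x y => Subtype.ext (hEc x x.2 y y.2) }
    letI : CommGroup M := { M.toGroup with mul_comm := fun x y => Subtype.ext (hM.comm x.2 y.2) }
    have hMN : M ≤ Subgroup.normalizer (E : Set G) := by rw [Subgroup.normalizer_eq_top]; exact le_top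
    letI := Cfsg.Agent.Lib.Frobenius.FPF.conjAction M E hMN
    haveI : IsZGroup M := Cfsg.Agent.Lib.Zassenhaus.RegularDegree.isZGroup_of_fpf (K := M) (V := E)
      (Cfsg.Agent.Lib.Frobenius.FPF.isFPF_conjAction M E hMN fun x hx hx1 => by
        rw [eq_bot_iff]
        intro e he
        obtain ⟨heE, hec⟩ := Subgroup.mem_inf.mp he
        exact Subgroup.mem_bot.mpr (hfix x hx hx1 e heE (Subgroup.mem_centralizer_singleton_iff.mp hec).symm))
      (Nat.odd_iff.mpr (by omega))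
    infer_instance
  refine ⟨a, E, ha, hEn, ⟨⟨⟨fun x y => Subtype.ext (hEc x x.2 y y.2)⟩⟩, hE2⟩, hj, hint, hsup, ?_⟩
  obtain ⟨x₀, hx₀⟩ := hcyc.exists_generator
  have hord : orderOf x₀ = 2 ^ a + 1 := by rw [orderOf_eq_card_of_forall_mem_zpowers hx₀, hm]
  refine Cfsg.Agent.Lib.SL2.iso_dihedral (G := N) ⟨x₀, Subgroup.le_normalizer x₀.2⟩ ⟨z, hM.z_mem⟩
    ?_ (Subtype.ext hM.zz) (Subtype.ext ?_) ?_ (by rw [hN, hm]; ring)
  · rw [Subgroup.orderOf_mk, Subgroup.orderOf_coe, hord]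
  · show z * (x₀ : G) * z⁻¹ = (x₀ : G)⁻¹
    rw [inv_self hM.zz, hM.inverts hM.z_mem hM.zz hM.z_ne x₀.2]
  · rintro ⟨k, hk⟩
    have hk' : (x₀ : G) ^ k = z := congrArg Subtype.val hk
    exact hM.z_notMem (hk' ▸ M.zpow_mem x₀.2 k)

/-- The case `|M| = 2t + 1`. -/
theorem projective {a : ℕ} (ha : 1 ≤ a) (hm : Nat.card M = 2 ^ (a + 1) + 1)
    (hE : Nat.card ↥(Subgroup.centralizer ({z} : Set G)) = 2 ^ (a + 1))
    (hsq : ∀ c ∈ Subgroup.centralizer ({z} : Set G), c * c = 1)
    (hodd : ¬ 2 ∣ (Subgroup.centralizer ({z} : Set G)).index)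
    (hclass : (Subgroup.centralizer ({z} : Set G)).index = Nat.card {g : G // orderOf g = 2}) :
    ∃ (F : Type) (_ : Field F) (_ : Fintype F) (e : ℕ), 1 < e ∧ Fintype.card F = 2 ^ e ∧
      IsCyclic ↥M ∧ Nat.card M = 2 ^ e + 1 ∧
      Nonempty (G ≃* Matrix.ProjectiveSpecialLinearGroup (Fin 2) F) := by
  classical
  haveI : Fact (Nat.Prime 2) := ⟨Nat.prime_two⟩
  set C := Subgroup.centralizer ({z} : Set G) with hC
  let T : Sylow 2 G := (IsPGroup.of_card hE).toSylow hodd
  have hT : (T : Subgroup G) = C := rfl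
  have hzord : orderOf z = 2 := hM.orderOf_z
  have h4 : 4 ≤ 2 ^ (a + 1) :=
    (show 4 = 2 ^ 2 by norm_num) ▸ Nat.pow_le_pow_right (by norm_num) (by omega)
  have hnc : ¬ IsCyclic (T : Subgroup G) := by
    rw [hT]
    intro hcyc
    obtain ⟨g, hg⟩ := hcyc.exists_generator
    have h1 := orderOf_eq_card_of_forall_mem_zpowers hg
    have h2 : orderOf g ∣ 2 := orderOf_dvd_of_pow_eq_one (Subtype.ext (by
      rw [Subgroup.coe_pow, pow_two]; exact hsq g g.2))
    rw [h1, hE] at h2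
    have := Nat.le_of_dvd two_pos h2
    omega
  obtain ⟨⟨x, hx⟩, hx1⟩ := (Subgroup.ne_bot_iff_exists_ne_one).mp hM.ne_bot
  have hnn : ¬ (T : Subgroup G).Normal := by
    rw [hT]
    intro hn
    have h := hn.conj_mem z (Subgroup.mem_centralizer_singleton_iff.mpr rfl) x
    rw [hM.conj_z hx, hC, Subgroup.mem_centralizer_singleton_iff, mul_assoc, ← mul_assoc z] at h
    exact hx1 (Subtype.ext (hM.sq_eq_one hx
      (hM.commute_z (M.mul_mem hx hx) (mul_right_cancel (by rw [mul_assoc]; exact h)))))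
  have hEC : Cfsg.Agent.Lib.SECount.ElemCentralizers G := by
    intro w hw
    obtain ⟨b, rfl⟩ := conj_of_index_eq hzord hclass hw
    have hc2 : ∀ c ∈ Subgroup.centralizer ({b * z * b⁻¹} : Set G), c * c = 1 := by
      intro c hc
      rw [Subgroup.mem_centralizer_singleton_iff] at hc
      have h1 := hsq (b⁻¹ * c * b) (by
        rw [hC, Subgroup.mem_centralizer_singleton_iff]
        calc b⁻¹ * c * b * z = b⁻¹ * (c * (b * z * b⁻¹)) * b := by group
          _ = b⁻¹ * (b * z * b⁻¹ * c) * b := by rw [hc]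
          _ = z * (b⁻¹ * c * b) := by group)
      calc c * c = b * (b⁻¹ * c * b * (b⁻¹ * c * b)) * b⁻¹ := by group
        _ = 1 := by rw [h1, mul_one, mul_inv_cancel]
    refine ⟨⟨⟨fun p q => Subtype.ext ?_⟩⟩, fun c hc => by rw [pow_two]; exact hc2 c hc⟩
    show (p : G) * q = q * p
    have hp := inv_self (hc2 p p.2)
    have hq := inv_self (hc2 q q.2)
    have hpq := inv_self (hc2 _ (Subgroup.mul_mem _ p.2 q.2))
    rw [mul_inv_rev, hp, hq] at hpq
    exact hpq.symm
  obtain ⟨F₀, iF₀, iFF₀, -, hcard, ⟨e₀⟩⟩ :=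
    Cfsg.Agent.Lib.SECount.exists_sl_mulEquiv T hnc hnn hEC
  obtain ⟨F, iF, iFF, hcF, ⟨er⟩⟩ := Cfsg.Agent.Lib.SL2.exists_field_type_zero F₀
  have hcardF : Fintype.card F = 2 ^ (a + 1) := by
    rw [hcF, hcard]
    exact hE
  have hchar : CharP F 2 := by
    obtain ⟨n, hn, hn'⟩ := FiniteField.card F (ringChar F)
    rw [hcardF] at hn'
    rw [← (Nat.prime_dvd_prime_iff_eq hn Nat.prime_two).mp
      (hn.dvd_of_dvd_pow (hn' ▸ dvd_pow_self _ n.ne_zero))]
    exact ringChar.charP F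
  let e : G ≃* Cfsg.Agent.Lib.SL2.SLtwo F := e₀.trans (Cfsg.Agent.Lib.SL2.slCongr er)
  have hcenter : Subgroup.center (Cfsg.Agent.Lib.SL2.SLtwo F) = ⊥ := by
    rw [eq_bot_iff]
    intro g hg
    obtain ⟨h01, h10, hd⟩ := (Cfsg.Agent.Lib.SL2.mem_center_iff_entries g).mp hg
    have hdet := g.2
    rw [Matrix.det_fin_two] at hdet
    have h00 : g 0 0 = 1 := by
      have h : (g 0 0 - 1) ^ 2 = 0 := by
        rw [sub_sq, one_pow, mul_one, show (2 : F) = 0 from CharTwo.two_eq_zero, zero_mul, sub_zero]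
        rw [← hd, h01, zero_mul, sub_zero] at hdet
        rw [pow_two, hdet, CharTwo.add_self_eq_zero]
      exact sub_eq_zero.mp (pow_eq_zero_iff two_ne_zero |>.mp h)
    rw [Subgroup.mem_bot]
    ext i k
    fin_cases i <;> fin_cases k <;> simp [h01, h10, h00, ← hd]
  refine ⟨F, iF, iFF, a + 1, by omega, hcardF, ?_, hm, ⟨e.trans
    (((QuotientGroup.quotientMulEquivOfEq hcenter).trans QuotientGroup.quotientBot).symm)⟩⟩
  set g := e x with hg
  have hg1 : g ∉ Subgroup.center (Cfsg.Agent.Lib.SL2.SLtwo F) := by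
    rw [hcenter, Subgroup.mem_bot, hg, EmbeddingLike.map_eq_one_iff]
    exact fun h => hx1 (Subtype.ext h)
  have hco : Nat.Coprime (orderOf g) 2 := by
    rw [hg, MulEquiv.orderOf_eq, Nat.coprime_comm, Nat.prime_two.coprime_iff_not_dvd]
    exact fun h => hM.not_two_dvd (h.trans (M.orderOf_dvd_natCard hx))
  haveI := Cfsg.Agent.Lib.LinGroup.isCyclic_centralizer_of_coprime 2 hg1 hco
  refine isCyclic_of_injective
    (MonoidHom.codRestrict (e.toMonoidHom.comp M.subtype) (Subgroup.centralizer ({g} : Set _)) ?_) ?_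
  · intro y
    rw [Subgroup.mem_centralizer_singleton_iff]
    show e y * e x = e x * e y
    rw [← map_mul, ← map_mul, hM.comm y.2 hx]
  · intro p q h
    exact Subtype.ext (e.injective (congrArg Subtype.val h))

/-- The case distinction. -/
theorem small (hF : Full M) (hnn : ¬ M.Normal)
    (h2 : Nat.card ↥(Subgroup.normalizer (M : Set G) ⊓ Subgroup.centralizer ({z} : Set G)) = 2) :
    (∃ (F : Type) (_ : Field F) (_ : Fintype F) (e : ℕ), 1 < e ∧ Fintype.card F = 2 ^ e ∧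
      IsCyclic ↥M ∧ Nat.card M = 2 ^ e + 1 ∧
      Nonempty (G ≃* Matrix.ProjectiveSpecialLinearGroup (Fin 2) F)) ∨
    (∃ (d : ℕ) (E : Subgroup G), 1 ≤ d ∧ E.Normal ∧
      (IsMulCommutative E ∧ ∀ e ∈ E, e ^ 2 = 1) ∧ Nat.card E = 2 ^ (2 * d) ∧
      E ⊓ Subgroup.normalizer (M : Set G) = ⊥ ∧ E ⊔ Subgroup.normalizer (M : Set G) = ⊤ ∧
      Nonempty (↥(Subgroup.normalizer (M : Set G)) ≃* DihedralGroup (2 ^ d + 1))) := by
  classical
  haveI : Fact (Nat.Prime 2) := ⟨Nat.prime_two⟩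
  set N := Subgroup.normalizer (M : Set G) with hNdef
  set C := Subgroup.centralizer ({z} : Set G) with hC
  have hsq : ∀ c ∈ C, c * c = 1 := by
    intro c hc
    by_cases hcN : c ∈ N
    · have h : (⟨c, Subgroup.mem_inf.mpr ⟨hcN, hc⟩⟩ : ↥(N ⊓ C)) ^ 2 = 1 := h2 ▸ pow_card_eq_one'
      rw [← pow_two]
      exact congrArg Subtype.val h
    · exact hM.sq_of_commute hF hcN (Subgroup.mem_centralizer_singleton_iff.mp hc)
  obtain ⟨n, hn⟩ := IsPGroup.iff_card.mp (show IsPGroup 2 C from fun x => ⟨1, Subtype.ext (by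
    rw [pow_one, Subgroup.coe_pow, pow_two]; exact hsq x x.2)⟩)
  obtain ⟨g₀, hg₀⟩ := hM.exists_commute_out hF hnn
  have hcC := card_centralizer z N
  rw [h2, ← hC, hn] at hcC
  have hpos : 0 < Nat.card {g : G // g ∉ N ∧ g * z = z * g} :=
    Nat.card_pos_iff.mpr ⟨⟨⟨g₀, hg₀⟩⟩, inferInstance⟩
  obtain ⟨a, rfl⟩ : ∃ a, n = a + 1 := by
    rcases n with _ | a
    · simp at hcC
    · exact ⟨a, rfl⟩
  have ha : 1 ≤ a := by
    rcases Nat.eq_zero_or_pos a with rfl | h
    · simp at hcC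
      omega
    · exact h
  obtain ⟨s, hs⟩ : ∃ s, 2 ^ a = s + 1 := ⟨2 ^ a - 1, by have := Nat.one_le_two_pow (n := a); omega⟩
  have hout : Nat.card {g : G // g ∉ N ∧ g * z = z * g} = 2 * s := by
    rw [pow_succ, hs] at hcC; omega
  have hNcard : Nat.card N = Nat.card M * 2 := by rw [← hM.card_normalizer, ← hC, h2]
  set m := Nat.card M with hmdef
  have hG : Nat.card G = 2 * m * (1 + m * s) := by
    have h := hM.card_out_mul hF
    rw [hM.card_out hF, hout, ← hNdef, hNcard] at h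
    rw [← h]; ring
  have hI : Nat.card {g : G // orderOf g = 2} = m * (2 * s + 1) := by
    rw [hM.card_invol hF, hM.card_out hF, hout, ← hmdef]; ring
  have hidx : (s + 1) * C.index = m * (1 + m * s) := by
    have h := Subgroup.card_mul_index C
    rw [hn, pow_succ, hs, hG] at h
    refine Nat.eq_of_mul_eq_mul_left two_pos ?_
    rw [← mul_assoc, mul_comm 2 (s + 1), h]
    ring
  have hmodd : ¬ 2 ∣ m := hM.not_two_dvd
  have hm2 : 2 ≤ m := hM.two_le_card
  obtain ⟨m', hm'⟩ : ∃ m', m = m' + 1 := ⟨m - 1, by omega⟩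
  have hdvd : s + 1 ∣ m' := by
    have hco : Nat.Coprime (s + 1) m := hs ▸ (Nat.prime_two.coprime_iff_not_dvd.mpr hmodd).pow_left a
    have h1 : s + 1 ∣ 1 + m * s := hco.dvd_of_dvd_mul_left ⟨_, hidx.symm⟩
    have h2' : s + 1 ∣ 1 + m * s + m' := by
      refine ⟨m, ?_⟩
      rw [hm']; ring
    exact (Nat.dvd_add_right h1).mp h2'
  have hbound : m ≤ 2 * s + 3 := by
    have h := index_centralizer_le hM.orderOf_z
    rw [hI, ← hC] at h
    have h' := Nat.mul_le_mul_left (s + 1) h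
    rw [hidx, ← mul_assoc, mul_comm (s + 1) m, mul_assoc] at h'
    have h'' := Nat.le_of_mul_le_mul_left h' (by omega)
    have hs0 : 0 < s := by have := Nat.one_lt_two_pow (n := a) (by omega); omega
    refine Nat.le_of_mul_le_mul_left ?_ hs0
    rw [show (s + 1) * (2 * s + 1) = s * (2 * s + 3) + 1 by ring, mul_comm m s] at h''
    omega
  obtain ⟨c, hc⟩ := hdvd
  rcases c with _ | _ | _ | c
  · omega
  · -- `m = t + 1`
    right
    have hm1 : m = 2 ^ a + 1 := by omega
    refine hM.affine ha hm1 hn ?_ hNcard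
    rw [hG, show (2 : ℕ) ^ (2 * a + 1) = 2 * (2 ^ a * 2 ^ a) by rw [← pow_add, ← pow_succ']; ring_nf,
      hs, ← hmdef, show m = s + 2 by omega]
    ring
  · -- `m = 2t + 1`
    left
    have hm1 : m = 2 ^ (a + 1) + 1 := by rw [pow_succ]; omega
    have hm3 : m = 2 * s + 3 := by omega
    have hidx' : C.index = m * (2 * s + 1) := by
      refine Nat.eq_of_mul_eq_mul_left (show 0 < s + 1 by omega) ?_
      rw [hidx, hm3]; ring
    refine hM.projective ha hm1 hn hsq ?_ (by rw [← hC, hidx', hI])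
    rw [← hC, hidx']
    intro h
    rcases Nat.prime_two.dvd_mul.mp h with h | h
    · exact hmodd h
    · omega
  · rw [show (s + 1) * (c + 1 + 1 + 1) = c * (s + 1) + (3 * s + 3) by ring] at hc
    have hs0 : 0 < s := by have := Nat.one_lt_two_pow (n := a) (by omega); omega
    omega

end Hyp

end Cfsg.Agent.Lib.TICount
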